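import Groth.Agent.EGA2.K42.VALoc
import Groth.Agent.EGA2.K43.VAFree
import Groth.Agent.Ega1.QcqsPush

/-!
# Very ampleness for projective spaces, locally on the base

`va_of_openCover`: if `L` restricted to `f⁻¹ V_j` is relatively very ample for an immersion into some `P^n_{V_j}` for all `j`,
then `VA f (𝟙 (f_* L))`.
-/

set_option autoImplicit false
universe u
open CategoryTheory CategoryTheory.Limits AlgebraicGeometry TopologicalSpace Opposite

namespace K387.PnLocal

open K43.VADef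

variable {X S : Scheme.{u}}

theorem isSeparated_of_pn {f : X ⟶ S} {L : X.Modules} (h : RelAmple.IsRelVeryAmplePn f L) : IsSeparated f := by
  obtain ⟨n, i, hi, rfl, -⟩ := h
  have h1 : IsSeparated (pullback.snd (CohB1.ProjSpace.toSpec n (ULift.{u} ℤ)) (specULiftZIsTerminal.from S)) := by
    have h2 : IsSeparated (CohB1.ProjSpace.toSpec n (ULift.{u} ℤ)) :=
      MorphismProperty.comp_mem _ _ _ (Proj.isSeparated (CohB1.polyGrading n (ULift.{u} ℤ))) inferInstance
    exact MorphismProperty.pullback_snd _ _ h2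
  exact MorphismProperty.comp_mem _ _ _ inferInstance h1

theorem isSeparated_of_openCover (f : X ⟶ S) (L : X.Modules)
    {ι : Type u} (V : ι → S.Opens) (hV : (⨆ j, V j) = ⊤)
    (h : ∀ j, RelAmple.IsRelVeryAmplePn (f ∣_ V j) (L.restrict (f ⁻¹ᵁ V j).ι)) : IsSeparated f :=
  (IsZariskiLocalAtTarget.iff_of_iSup_eq_top (P := @IsSeparated) V hV).mpr fun j => isSeparated_of_pn (h j)

theorem va_of_openCover (f : X ⟶ S) [QuasiCompact f] (L : X.Modules) (hL : PicF.IsInvertible L)
    {ι : Type u} (V : ι → S.Opens) (hV : (⨆ j, V j) = ⊤)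
    (h : ∀ j, RelAmple.IsRelVeryAmplePn (f ∣_ V j) (L.restrict (f ⁻¹ᵁ V j).ι)) :
    Coh.IsQCoh ((Scheme.Modules.pushforward f).obj L) ∧ VA f (𝟙 ((Scheme.Modules.pushforward f).obj L)) := by
  have hs := isSeparated_of_openCover f L V hV h
  have hq : Coh.IsQCoh ((Scheme.Modules.pushforward f).obj L) :=
    Groth.Agent.Ega1.QcqsPush.isQCoh_pushforward f L (Groth.Agent.Ega2.QCohLocal.isQCoh_of_isInvertible hL)
  refine ⟨hq, K42.VALoc.va_id_of_restrict hq fun y => ?_⟩
  have hy : y ∈ ⨆ j, V j := by rw [hV]; trivial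
  obtain ⟨j, hj⟩ := Opens.mem_iSup.mp hy
  obtain ⟨n, φ, hφ⟩ := K43.VAFree.exists_va_of_pn (h j)
  exact ⟨V j, hj, _, φ, hφ⟩

end K387.PnLocal
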