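import Mathlib.AlgebraicGeometry.PullbackCarrier
import Mathlib.AlgebraicGeometry.Morphisms.FiniteType
import Mathlib.RingTheory.TensorProduct.Finite

/-!
# Specializations in fibre products are detected by base changes locally of finite type
-/

set_option autoImplicit false
universe u

open CategoryTheory CategoryTheory.Limits AlgebraicGeometry TensorProduct

namespace K387.Approx

section Ring

variable (R C B : Type u) [CommRing R] [CommRing C] [CommRing B] [Algebra R C] [Algebra R B]

/-- The map `C ⊗ B' → C ⊗ B` for a subalgebra `B'` of `B`. -/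
noncomputable abbrev incl (B' : Subalgebra R B) : C ⊗[R] B' →ₐ[R] C ⊗[R] B :=
  Algebra.TensorProduct.map (AlgHom.id R C) B'.val

variable {R C B} in
/-- Monotonicity of the image of `C ⊗ B'` in `C ⊗ B`. -/
theorem exists_of_le {B₁ B₂ : Subalgebra R B} (hle : B₁ ≤ B₂) (z : C ⊗[R] B₁) :
    ∃ z' : C ⊗[R] B₂, incl R C B B₂ z' = incl R C B B₁ z := by
  refine ⟨Algebra.TensorProduct.map (AlgHom.id R C) (Subalgebra.inclusion hle) z, ?_⟩
  rw [← AlgHom.comp_apply, ← Algebra.TensorProduct.map_comp]
  rfl

variable {R C B} in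
/-- Every element of `C ⊗ B` comes from a finitely generated subalgebra of `B`. -/
theorem exists_fg (t : C ⊗[R] B) : ∃ (s : Finset B) (z : C ⊗[R] (Algebra.adjoin R (s : Set B))),
    incl R C B (Algebra.adjoin R (s : Set B)) z = t := by
  classical
  induction t using TensorProduct.induction_on with
  | zero => exact ⟨∅, 0, map_zero _⟩
  | tmul c b =>
    exact ⟨{b}, c ⊗ₜ ⟨b, Algebra.subset_adjoin (by simp)⟩,
      Algebra.TensorProduct.map_tmul _ _ _ _⟩
  | add x y hx hy =>
    obtain ⟨s, z, hs⟩ := hx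
    obtain ⟨s', z', hs'⟩ := hy
    obtain ⟨z₁, h1⟩ := exists_of_le (Algebra.adjoin_mono (R := R)
      (Finset.coe_subset.2 (Finset.subset_union_left (s₁ := s) (s₂ := s')))) z
    obtain ⟨z₂, h2⟩ := exists_of_le (Algebra.adjoin_mono (R := R)
      (Finset.coe_subset.2 (Finset.subset_union_right (s₁ := s) (s₂ := s')))) z'
    refine ⟨s ∪ s', z₁ + z₂, ?_⟩
    rw [map_add, h1, h2, hs, hs']

variable {R C B} in
/-- A specialization in `Spec (C ⊗ B)` can be tested on the finitely generated subalgebras of `B`. -/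
theorem specializes_of_fg (w₀ w₁ : PrimeSpectrum (C ⊗[R] B))
    (H : ∀ s : Finset B, PrimeSpectrum.comap (incl R C B (Algebra.adjoin R (s : Set B))).toRingHom w₁ ⤳
      PrimeSpectrum.comap (incl R C B (Algebra.adjoin R (s : Set B))).toRingHom w₀) : w₁ ⤳ w₀ := by
  rw [← PrimeSpectrum.le_iff_specializes]
  intro t ht
  obtain ⟨s, z, rfl⟩ := exists_fg t
  have h1 := H s
  rw [← PrimeSpectrum.le_iff_specializes] at h1
  exact h1 ht

end Ring

end K387.Approx
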