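import Groth.Agent.Mor.K387.Approx

/-!
# Reflecting specializations: reduction to base changes locally of finite type
-/

set_option autoImplicit false
universe u

open CategoryTheory CategoryTheory.Limits AlgebraicGeometry TensorProduct

namespace K387.ApproxMain

open K387.Approx

/-- If the projection `Y ×_X X' ⟶ X'` reflects specializations for all `X' ⟶ X` locally of finite
type then it does so for all `X' ⟶ X`. -/
theorem main {X Y : Scheme.{u}} (f : Y ⟶ X)
    (h : ∀ (X' : Scheme.{u}) (g : X' ⟶ X) [LocallyOfFiniteType g] (y₀ y₁ : ↥(pullback f g)),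
      pullback.snd f g y₁ ⤳ pullback.snd f g y₀ → y₁ ⤳ y₀)
    (X' : Scheme.{u}) (g : X' ⟶ X) (y₀ y₁ : ↥(pullback f g))
    (hs : pullback.snd f g y₁ ⤳ pullback.snd f g y₀) : y₁ ⤳ y₀ := by
  have hcond : ∀ y : ↥(pullback f g), f (pullback.fst f g y) = g (pullback.snd f g y) := by
    intro y
    rw [← Scheme.Hom.comp_apply, ← Scheme.Hom.comp_apply, pullback.condition]
  have step1 : pullback.fst f g y₁ ⤳ pullback.fst f g y₀ := by
    obtain ⟨z₀, h00, h01⟩ := Scheme.Pullback.exists_preimage_pullback (f := f) (g := 𝟙 X)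
      (pullback.fst f g y₀) (g (pullback.snd f g y₀)) (by rw [hcond]; rfl)
    obtain ⟨z₁, h10, h11⟩ := Scheme.Pullback.exists_preimage_pullback (f := f) (g := 𝟙 X)
      (pullback.fst f g y₁) (g (pullback.snd f g y₁)) (by rw [hcond]; rfl)
    rw [← h00, ← h10]
    exact (h X (𝟙 X) z₀ z₁ (by rw [h01, h11]; exact hs.map g.continuous)).map
      (pullback.fst f (𝟙 X)).continuous
  obtain ⟨V, hV, hxV, -⟩ := exists_isAffineOpen_mem_and_subset
    (x := f (pullback.fst f g y₀)) (U := ⊤) trivial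
  obtain ⟨T, hT, hyT, hTV⟩ := exists_isAffineOpen_mem_and_subset
    (x := pullback.fst f g y₀) (U := f ⁻¹ᵁ V) hxV
  obtain ⟨W, hW, hyW, hWV⟩ := exists_isAffineOpen_mem_and_subset
    (x := pullback.snd f g y₀) (U := g ⁻¹ᵁ V) (by
      change g _ ∈ V
      rw [← hcond]
      exact hxV)
  have hTV' : T ≤ f ⁻¹ᵁ V := hTV
  have hWV' : W ≤ g ⁻¹ᵁ V := hWV
  have hyT₁ : pullback.fst f g y₁ ∈ T := step1.mem_open T.2 hyT
  have hyW₁ : pullback.snd f g y₁ ∈ W := hs.mem_open W.2 hyW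
  algebraize [(f.appLE V T hTV').hom, (g.appLE V W hWV').hom]
  let φ := CommRingCat.ofHom (algebraMap Γ(X, V) Γ(Y, T))
  let ψ := CommRingCat.ofHom (algebraMap Γ(X, V) Γ(X', W))
  have e₁ : Spec.map φ ≫ hV.fromSpec = hT.fromSpec ≫ f :=
    IsAffineOpen.SpecMap_appLE_fromSpec f hV hT hTV'
  have e₂ : Spec.map ψ ≫ hV.fromSpec = hW.fromSpec ≫ g :=
    IsAffineOpen.SpecMap_appLE_fromSpec g hV hW hWV'
  let m := pullback.map (Spec.map φ) (Spec.map ψ) f g hT.fromSpec hW.fromSpec hV.fromSpec e₁ e₂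
  have hm : Set.range m = pullback.fst f g ⁻¹' Set.range hT.fromSpec ∩
      pullback.snd f g ⁻¹' Set.range hW.fromSpec := Scheme.Pullback.range_map _ _ _ _ _ _ _ _ _
  rw [hT.range_fromSpec, hW.range_fromSpec] at hm
  obtain ⟨w₀, hw₀⟩ : y₀ ∈ Set.range m := by rw [hm]; exact ⟨hyT, hyW⟩
  obtain ⟨w₁, hw₁⟩ : y₁ ∈ Set.range m := by rw [hm]; exact ⟨hyT₁, hyW₁⟩
  suffices hw : w₁ ⤳ w₀ by
    rw [← hw₀, ← hw₁]
    exact hw.map m.continuous
  let e := pullbackSpecIso Γ(X, V) Γ(Y, T) Γ(X', W)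
  have hmsnd : m ≫ pullback.snd f g = pullback.snd (Spec.map φ) (Spec.map ψ) ≫ hW.fromSpec :=
    pullback.lift_snd _ _ _
  have hsnd : ∀ w, hW.fromSpec (pullback.snd (Spec.map φ) (Spec.map ψ) w) =
      pullback.snd f g (m w) := by
    intro w
    rw [← Scheme.Hom.comp_apply, ← Scheme.Hom.comp_apply, hmsnd]
  have hsW : pullback.snd (Spec.map φ) (Spec.map ψ) w₁ ⤳ pullback.snd (Spec.map φ) (Spec.map ψ) w₀ := by
    rw [← hW.fromSpec.isOpenEmbedding.isInducing.specializes_iff]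
    rw [hsnd, hsnd, hw₀, hw₁]
    exact hs
  suffices he : e.hom w₁ ⤳ e.hom w₀ by
    have h1 := he.map e.inv.continuous
    rw [← Scheme.Hom.comp_apply, ← Scheme.Hom.comp_apply, e.hom_inv_id] at h1
    exact h1
  refine specializes_of_fg _ _ fun s ↦ ?_
  let B' := Algebra.adjoin Γ(X, V) (s : Set Γ(X', W))
  let ψ' := CommRingCat.ofHom (algebraMap Γ(X, V) B')
  let e' := pullbackSpecIso Γ(X, V) Γ(Y, T) B'
  have hft : LocallyOfFiniteType (Spec.map ψ') := by
    rw [HasRingHomProperty.Spec_iff (P := @LocallyOfFiniteType)]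
    have h1 : Algebra.FiniteType Γ(X, V) B' := by
      rw [← Subalgebra.fg_iff_finiteType]
      exact ⟨s, rfl⟩
    exact (RingHom.finiteType_algebraMap).2 h1
  let m' := pullback.map (Spec.map φ) (Spec.map ψ') f (Spec.map ψ' ≫ hV.fromSpec) hT.fromSpec (𝟙 _)
    hV.fromSpec e₁ (by rw [Category.id_comp])
  have hm' : IsOpenImmersion m' := inferInstance
  have hm'snd : m' ≫ pullback.snd f (Spec.map ψ' ≫ hV.fromSpec) =
      pullback.snd (Spec.map φ) (Spec.map ψ') := by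
    have h1 : m' ≫ pullback.snd f (Spec.map ψ' ≫ hV.fromSpec) =
      pullback.snd (Spec.map φ) (Spec.map ψ') ≫ 𝟙 _ := pullback.lift_snd _ _ _
    rw [h1, Category.comp_id]
  let r : Spec (CommRingCat.of (Γ(Y, T) ⊗[Γ(X, V)] Γ(X', W))) ⟶
      Spec (CommRingCat.of (Γ(Y, T) ⊗[Γ(X, V)] B')) :=
    Spec.map (CommRingCat.ofHom (incl Γ(X, V) Γ(Y, T) Γ(X', W) B').toRingHom)
  let b : Spec (CommRingCat.of Γ(X', W)) ⟶ Spec (CommRingCat.of B') :=
    Spec.map (CommRingCat.ofHom B'.val.toRingHom)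
  have hr : e.hom ≫ r ≫ e'.inv ≫ pullback.snd (Spec.map φ) (Spec.map ψ') =
      pullback.snd (Spec.map φ) (Spec.map ψ) ≫ b := by
    have h1 : e'.inv ≫ pullback.snd (Spec.map φ) (Spec.map ψ') =
      Spec.map (CommRingCat.ofHom (Algebra.TensorProduct.includeRight (R := Γ(X, V)) (A := Γ(Y, T))
        (B := B')).toRingHom) := pullbackSpecIso_inv_snd _ _ _
    have h2 : e.hom ≫ Spec.map (CommRingCat.ofHom (Algebra.TensorProduct.includeRight (R := Γ(X, V))
        (A := Γ(Y, T)) (B := Γ(X', W))).toRingHom) = pullback.snd (Spec.map φ) (Spec.map ψ) :=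
      pullbackSpecIso_hom_snd _ _ _
    rw [h1, ← h2, Category.assoc, ← Spec.map_comp, ← Spec.map_comp, ← CommRingCat.ofHom_comp,
      ← CommRingCat.ofHom_comp]
    congr 3
  have hz : ∀ w, pullback.snd f (Spec.map ψ' ≫ hV.fromSpec) (m' (e'.inv (r (e.hom w)))) =
      b (pullback.snd (Spec.map φ) (Spec.map ψ) w) := by
    intro w
    rw [← Scheme.Hom.comp_apply, hm'snd, ← Scheme.Hom.comp_apply, ← Scheme.Hom.comp_apply,
      ← Scheme.Hom.comp_apply, ← Scheme.Hom.comp_apply]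
    rw [← hr]
  have h1 := h _ (Spec.map ψ' ≫ hV.fromSpec) (m' (e'.inv (r (e.hom w₀))))
    (m' (e'.inv (r (e.hom w₁)))) (by
      rw [hz, hz]
      exact hsW.map b.continuous)
  rw [m'.isOpenEmbedding.isInducing.specializes_iff] at h1
  have h2 := h1.map e'.hom.continuous
  have h3 : ∀ t, e'.hom (e'.inv t) = t := by
    intro t
    rw [← Scheme.Hom.comp_apply, e'.inv_hom_id]
    rfl
  rw [h3, h3] at h2
  exact h2

end K387.ApproxMain
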