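import Mathlib.RingTheory.Unramified.Basic
import Mathlib.RingTheory.Kaehler.Basic
import Mathlib.RingTheory.DualNumber
import Mathlib.RingTheory.Jacobson.Ring
import Mathlib.RingTheory.Finiteness.Nakayama
import Mathlib.FieldTheory.IsAlgClosed.Basic
import Mathlib.LinearAlgebra.Dual.Lemmas

/-!
# Dual number points and unramifiedness over an algebraically closed field, affine case
-/

set_option autoImplicit false
universe u

open TrivSqZeroExt

namespace K387.DualNum

variable {k : Type u} [Field k] {A : Type u} [CommRing A] [Algebra k A]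

/-- The algebra homomorphism to the dual numbers attached to a point `e` and a derivation `d` at `e`. -/
def homOfDer (e : A →ₐ[k] k) (d : A →ₗ[k] k) (hd : ∀ a b, d (a * b) = e a * d b + e b * d a) :
    A →ₐ[k] DualNumber k :=
  AlgHom.ofLinearMap
    ({ toFun := fun a ↦ (inl (e a) + inr (d a) : TrivSqZeroExt k k)
       map_add' := fun a b ↦ by
        ext <;> simp
       map_smul' := fun c a ↦ by
        ext <;> simp } : A →ₗ[k] TrivSqZeroExt k k)
    (by
      have h1 : d 1 = 0 := by
        have := hd 1 1
        simp only [mul_one, map_one, one_mul] at this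
        simpa using this
      ext <;> simp [h1])
    (fun a b ↦ by
      ext
      · simp
      · simp [hd, mul_comm])

theorem fst_homOfDer (e : A →ₐ[k] k) (d : A →ₗ[k] k)
    (hd : ∀ a b, d (a * b) = e a * d b + e b * d a) (a : A) :
    (homOfDer e d hd a).fst = e a := by
  change (inl (e a) + inr (d a) : TrivSqZeroExt k k).fst = e a
  simp

theorem snd_homOfDer (e : A →ₐ[k] k) (d : A →ₗ[k] k)
    (hd : ∀ a b, d (a * b) = e a * d b + e b * d a) (a : A) :
    (homOfDer e d hd a).snd = d a := by
  change (inl (e a) + inr (d a) : TrivSqZeroExt k k).snd = d a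
  simp

/-- If dual number points are determined by their reductions then the algebra is unramified. -/
theorem formallyUnramified_of_ext [IsAlgClosed k] [Algebra.FiniteType k A]
    (H : ∀ g₁ g₂ : A →ₐ[k] DualNumber k, (∀ a, (g₁ a).fst = (g₂ a).fst) → g₁ = g₂) :
    Algebra.FormallyUnramified k A := by
  have key : ∀ (m : Ideal A), m.IsMaximal →
      (m • ⊤ : Submodule A (Ω[A⁄k])) = ⊤ := by
    intro m hm
    by_contra hne
    let _ : Field (A ⧸ m) := Ideal.Quotient.field m
    have hft : Algebra.FiniteType k (A ⧸ m) := inferInstance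
    have hfin : Module.Finite k (A ⧸ m) := finite_of_finite_type_of_isJacobsonRing k (A ⧸ m)
    have hbij : Function.Bijective (algebraMap k (A ⧸ m)) :=
      IsAlgClosed.algebraMap_bijective_of_isIntegral
    let σ : (A ⧸ m) ≃ₐ[k] k := (AlgEquiv.ofBijective (Algebra.ofId k (A ⧸ m)) hbij).symm
    let e : A →ₐ[k] k := (σ : (A ⧸ m) →ₐ[k] k).comp (Ideal.Quotient.mkₐ k m)
    let M := Ω[A⁄k] ⧸ (m • ⊤ : Submodule A (Ω[A⁄k]))
    have hM : Nontrivial M := Submodule.Quotient.nontrivial_iff.2 hne
    obtain ⟨v, hv⟩ := exists_ne (0 : M)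
    have hφ : ∃ φ : Module.Dual (A ⧸ m) M, φ v ≠ 0 := by
      by_contra h
      push Not at h
      exact hv ((Module.forall_dual_apply_eq_zero_iff (A ⧸ m) v).1 h)
    obtain ⟨φ, hφ⟩ := hφ
    let τ : Ω[A⁄k] → k := fun ω ↦ σ (φ (Submodule.Quotient.mk ω))
    have hτadd : ∀ x y, τ (x + y) = τ x + τ y := by
      intro x y
      simp only [τ, Submodule.Quotient.mk_add, map_add]
    have hτsmul : ∀ (a : A) x, τ (a • x) = e a * τ x := by
      intro a x
      have h1 : (Submodule.Quotient.mk (a • x) : M) = (Ideal.Quotient.mk m a) • Submodule.Quotient.mk x := rfl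
      simp only [τ]
      rw [h1, map_smul, smul_eq_mul, map_mul]
      rfl
    let d : A →ₗ[k] k :=
      { toFun := fun a ↦ τ (KaehlerDifferential.D k A a)
        map_add' := fun a b ↦ by rw [map_add, hτadd]
        map_smul' := fun c a ↦ by
          rw [Derivation.map_smul, ← algebraMap_smul A c, hτsmul, AlgHom.commutes]
          rfl }
    have hd : ∀ a b, d (a * b) = e a * d b + e b * d a := by
      intro a b
      change τ (KaehlerDifferential.D k A (a * b)) = _
      rw [Derivation.leibniz, hτadd, hτsmul, hτsmul]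
      rfl
    have h0 : ∀ a b, (0 : A →ₗ[k] k) (a * b) = e a * (0 : A →ₗ[k] k) b + e b * (0 : A →ₗ[k] k) a := by
      intro a b
      simp
    have h1 : homOfDer e d hd = homOfDer e 0 h0 := by
      apply H
      intro a
      rw [fst_homOfDer, fst_homOfDer]
    have h2 : ∀ a, d a = 0 := by
      intro a
      rw [← snd_homOfDer e d hd a, h1, snd_homOfDer]
      rfl
    have h3 : ∀ ω : Ω[A⁄k], τ ω = 0 := by
      intro ω
      have hω : ω ∈ Submodule.span A (Set.range (KaehlerDifferential.D k A)) := by
        rw [KaehlerDifferential.span_range_derivation]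
        trivial
      induction hω using Submodule.span_induction with
      | mem x hx => obtain ⟨a, rfl⟩ := hx; exact h2 a
      | zero => simp [τ]
      | add x y _ _ hx hy => rw [hτadd, hx, hy, add_zero]
      | smul a x _ hx => rw [hτsmul, hx, mul_zero]
    obtain ⟨ω, rfl⟩ := Submodule.Quotient.mk_surjective _ v
    apply hφ
    have h4 := h3 ω
    exact σ.injective (h4.trans (map_zero σ).symm)
  refine ⟨?_⟩
  by_contra hne
  rw [not_subsingleton_iff_nontrivial] at hne
  have hann : Module.annihilator A (Ω[A⁄k]) ≠ ⊤ := by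
    intro h
    rw [Module.annihilator_eq_top_iff] at h
    exact not_subsingleton _ h
  obtain ⟨m, hm, hle⟩ := Ideal.exists_le_maximal _ hann
  have hfg : (⊤ : Submodule A (Ω[A⁄k])).FG := Module.Finite.fg_top
  obtain ⟨r, hr1, hr2⟩ := Submodule.exists_sub_one_mem_and_smul_eq_zero_of_fg_of_le_smul m ⊤ hfg
    (key m hm).ge
  have h1 : r ∈ m := hle (Module.mem_annihilator.2 fun ω ↦ hr2 ω trivial)
  exact hm.ne_top ((Ideal.eq_top_iff_one _).2 (by simpa using m.sub_mem h1 hr1))

/-- Dual number points of an unramified algebra are determined by their reductions. -/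
theorem ext_of_formallyUnramified [Algebra.FormallyUnramified k A]
    (g₁ g₂ : A →ₐ[k] DualNumber k) (h : ∀ a, (g₁ a).fst = (g₂ a).fst) : g₁ = g₂ := by
  refine Algebra.FormallyUnramified.ext' (TrivSqZeroExt.fstHom k k k).toRingHom ?_ g₁ g₂ h
  refine ⟨2, ?_⟩
  rw [pow_two, Ideal.zero_eq_bot, eq_bot_iff, Ideal.mul_le]
  intro x hx y hy
  have hx' : x.fst = 0 := hx
  have hy' : y.fst = 0 := hy
  rw [Ideal.mem_bot]
  ext
  · simp [hx']
  · simp [hx', hy']

end K387.DualNum
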