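import Mathlib.AlgebraicGeometry.ValuativeCriterion
import Mathlib.AlgebraicGeometry.Morphisms.Immersion
import Mathlib.AlgebraicGeometry.Morphisms.Separated

/-!
# Maps out of local and integral affine schemes

Small lemmas on morphisms `Spec A ⟶ Y` with `A` local, a valuation ring or a domain.
-/

set_option autoImplicit false
universe u

open CategoryTheory CategoryTheory.Limits AlgebraicGeometry

namespace K387.Points

/-- A morphism from the spectrum of a local ring whose closed point lands in an open subscheme factors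
through that open subscheme. -/
theorem exists_lift_opens {R : Type u} [CommRing R] [IsLocalRing R] {X : Scheme.{u}}
    (f : Spec (CommRingCat.of R) ⟶ X) (U : X.Opens) (h : f (IsLocalRing.closedPoint R) ∈ U) :
    ∃ g : Spec (CommRingCat.of R) ⟶ (U : Scheme.{u}), g ≫ U.ι = f := by
  have h1 : f ⁻¹ᵁ U = ⊤ := Scheme.preimage_eq_top_of_closedPoint_mem f h
  refine ⟨IsOpenImmersion.lift U.ι f ?_, IsOpenImmersion.lift_fac _ _ _⟩
  rintro _ ⟨x, rfl⟩
  rw [Scheme.Opens.range_ι]
  have h2 : x ∈ f ⁻¹ᵁ U := by rw [h1]; trivial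
  exact h2

/-- Evaluation of `Spec (residue field) ⟶ Spec R` at the unique point. -/
theorem specMap_residue_closedPoint {R : Type u} [CommRing R] [IsLocalRing R] :
    Spec.map (CommRingCat.ofHom (IsLocalRing.residue R))
      (IsLocalRing.closedPoint (IsLocalRing.ResidueField R)) = IsLocalRing.closedPoint R :=
  IsLocalRing.comap_closedPoint (IsLocalRing.residue R)

/-- `Spec K ⟶ Spec A` is dominant for `K` the fraction field of a domain `A`. -/
theorem isDominant_specMap_fractionRing {A : Type u} [CommRing A] [IsDomain A] (K : Type u)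
    [Field K] [Algebra A K] [IsFractionRing A K] :
    IsDominant (Spec.map (CommRingCat.ofHom (algebraMap A K))) := by
  constructor
  rw [DenseRange]
  have h1 : Function.Injective (algebraMap A K) := IsFractionRing.injective A K
  have h2 : RingHom.ker (algebraMap A K) ≤ nilradical A := by
    rw [(RingHom.injective_iff_ker_eq_bot _).1 h1]; exact bot_le
  exact (PrimeSpectrum.denseRange_comap_iff_ker_le_nilRadical _).2 h2

/-- Two morphisms from the spectrum of a valuation ring which agree at the generic point and at the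
closed point are equal. -/
theorem eq_of_generic_closed {Y : Scheme.{u}}
    (A : Type u) [CommRing A] [IsDomain A] [IsLocalRing A] (K : Type u) [Field K] [Algebra A K]
    [IsFractionRing A K] (ξ η : Spec (CommRingCat.of A) ⟶ Y)
    (hK : Spec.map (CommRingCat.ofHom (algebraMap A K)) ≫ ξ =
      Spec.map (CommRingCat.ofHom (algebraMap A K)) ≫ η)
    (hk : ξ (IsLocalRing.closedPoint A) = η (IsLocalRing.closedPoint A)) :
    ξ = η := by
  obtain ⟨U, hU, hx, -⟩ := exists_isAffineOpen_mem_and_subset (x := ξ (IsLocalRing.closedPoint A))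
    (U := ⊤) trivial
  obtain ⟨ξ', rfl⟩ := exists_lift_opens ξ U hx
  obtain ⟨η', rfl⟩ := exists_lift_opens η U (by rw [← hk]; exact hx)
  have : IsAffine (U : Scheme.{u}) := hU
  have h1 := isDominant_specMap_fractionRing (A := A) K
  have h2 : ξ' = η' := by
    refine ext_of_isDominant (Spec.map (CommRingCat.ofHom (algebraMap A K))) ?_
    rw [← cancel_mono U.ι, Category.assoc, Category.assoc]
    exact hK
  rw [h2]

/-- Two morphisms from an integral affine scheme which agree at the points of a dense subset agree on a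
nonempty open. -/
theorem exists_open_eq {Y : Scheme.{u}}
    {X : Scheme.{u}} [IsIntegral X] (ξ η : X ⟶ Y)
    (D : Set X) (hD : Dense D)
    (hpt : ∀ p ∈ D, X.fromSpecResidueField p ≫ ξ = X.fromSpecResidueField p ≫ η) :
    ∃ U : X.Opens, (U : Set X).Nonempty ∧ U.ι ≫ ξ = U.ι ≫ η := by
  obtain ⟨p, hp⟩ := hD.nonempty
  obtain ⟨V, hV, hx, -⟩ := exists_isAffineOpen_mem_and_subset (x := ξ p) (U := ⊤) trivial
  have hηp : η p = ξ p := by
    have z : ↥(Spec (X.residueField p)) := IsLocalRing.closedPoint (X.residueField p)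
    have h1 : (X.fromSpecResidueField p ≫ ξ) z = (X.fromSpecResidueField p ≫ η) z := by
      rw [hpt p hp]
    rw [Scheme.Hom.comp_apply, Scheme.Hom.comp_apply, Scheme.fromSpecResidueField_apply] at h1
    exact h1.symm
  have hmem : p ∈ ξ ⁻¹ᵁ V ⊓ η ⁻¹ᵁ V := ⟨hx, by change η p ∈ V; rw [hηp]; exact hx⟩
  refine ⟨ξ ⁻¹ᵁ V ⊓ η ⁻¹ᵁ V, ⟨p, hmem⟩, ?_⟩
  set U : X.Opens := ξ ⁻¹ᵁ V ⊓ η ⁻¹ᵁ V with hU
  have hVa : IsAffine (V : Scheme.{u}) := hV
  let ξ' : (U : Scheme.{u}) ⟶ (V : Scheme.{u}) := IsOpenImmersion.lift V.ι (U.ι ≫ ξ) (by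
    rintro _ ⟨x, rfl⟩
    rw [Scheme.Opens.range_ι]
    exact x.2.1)
  let η' : (U : Scheme.{u}) ⟶ (V : Scheme.{u}) := IsOpenImmersion.lift V.ι (U.ι ≫ η) (by
    rintro _ ⟨x, rfl⟩
    rw [Scheme.Opens.range_ι]
    exact x.2.2)
  have h1 : ξ' ≫ V.ι = U.ι ≫ ξ := IsOpenImmersion.lift_fac _ _ _
  have h2 : η' ≫ V.ι = U.ι ≫ η := IsOpenImmersion.lift_fac _ _ _
  rw [← h1, ← h2]
  congr 1
  refine ext_of_fromSpecResidueField_eq ξ' η' (terminal.from _) (U.ι ⁻¹' D)
    (hD.preimage U.ι.isOpenEmbedding.isOpenMap) (fun x hx ↦ ?_) (Subsingleton.elim _ _)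
  rw [← cancel_mono V.ι, Category.assoc, Category.assoc, h1, h2,
    ← Scheme.Hom.SpecMap_residueFieldMap_fromSpecResidueField_assoc,
    ← Scheme.Hom.SpecMap_residueFieldMap_fromSpecResidueField_assoc, hpt _ hx]

end K387.Points
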