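import Groth.Agent.Mor.K387.DualNum
import Groth.Agent.Mor.K387.Points
import Mathlib.AlgebraicGeometry.Morphisms.FormallyUnramified

/-!
# Dual number points and unramifiedness: passage to affine charts
-/

set_option autoImplicit false
universe u

open CategoryTheory CategoryTheory.Limits AlgebraicGeometry

namespace K387.DualNumSch

/-- The residue projection of the dual numbers at the closed point. -/
theorem specMap_fst_closedPoint (k : Type u) [Field k] :
    Spec.map (CommRingCat.ofHom (TrivSqZeroExt.fstHom k k k).toRingHom)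
      (IsLocalRing.closedPoint k) = IsLocalRing.closedPoint (DualNumber k) := by
  have h1 : IsLocalHom (TrivSqZeroExt.fstHom k k k).toRingHom :=
    .of_surjective _ (fun a ↦ ⟨TrivSqZeroExt.inl a, TrivSqZeroExt.fst_inl k a⟩)
  exact IsLocalRing.comap_closedPoint _

variable {k : Type u} [Field k]

/-- A `k`-algebra structure and an algebra map from a factorization of morphisms of schemes. -/
theorem algHom_data {R : CommRingCat.{u}} (ψ : CommRingCat.of k ⟶ R)
    (φ : R ⟶ CommRingCat.of (DualNumber k))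
    (h : ψ ≫ φ = CommRingCat.ofHom (algebraMap k (DualNumber k))) :
    letI := ψ.hom.toAlgebra
    ∃ g : R →ₐ[k] DualNumber k, (g : R →+* DualNumber k) = φ.hom := by
  let _ := ψ.hom.toAlgebra
  refine ⟨{ φ.hom with commutes' := fun c ↦ ?_ }, rfl⟩
  exact congrArg (fun q ↦ q.hom c) h

/-- Uniqueness of dual number points in an unramified chart. -/
theorem eq_of_chart {R : CommRingCat.{u}} {X : Scheme.{u}} (j : Spec R ⟶ X) [IsOpenImmersion j]
    (p : X ⟶ Spec (CommRingCat.of k)) [FormallyUnramified p]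
    (v₁ v₂ : Spec (CommRingCat.of (DualNumber k)) ⟶ X)
    (h₁ : v₁ ≫ p = Spec.map (CommRingCat.ofHom (algebraMap k (DualNumber k))))
    (h₂ : v₂ ≫ p = Spec.map (CommRingCat.ofHom (algebraMap k (DualNumber k))))
    (h₁₂ : Spec.map (CommRingCat.ofHom (TrivSqZeroExt.fstHom k k k).toRingHom) ≫ v₁ =
      Spec.map (CommRingCat.ofHom (TrivSqZeroExt.fstHom k k k).toRingHom) ≫ v₂)
    (hj : v₁ (IsLocalRing.closedPoint (DualNumber k)) ∈ j.opensRange) : v₁ = v₂ := by
  have hv : v₂ (IsLocalRing.closedPoint (DualNumber k)) = v₁ (IsLocalRing.closedPoint (DualNumber k)) := by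
    have h3 := congrArg (fun q ↦ q (IsLocalRing.closedPoint k)) h₁₂
    have h4 : v₁ (Spec.map (CommRingCat.ofHom (TrivSqZeroExt.fstHom k k k).toRingHom)
        (IsLocalRing.closedPoint k)) =
        v₂ (Spec.map (CommRingCat.ofHom (TrivSqZeroExt.fstHom k k k).toRingHom)
        (IsLocalRing.closedPoint k)) := h3
    rw [specMap_fst_closedPoint] at h4
    exact h4.symm
  obtain ⟨w₁, hw₁⟩ := Points.exists_lift_opens v₁ j.opensRange hj
  obtain ⟨w₂, hw₂⟩ := Points.exists_lift_opens v₂ j.opensRange (by rw [hv]; exact hj)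
  have hjr : j.isoOpensRange.inv ≫ j = j.opensRange.ι := by
    rw [Iso.inv_comp_eq]
    exact (Scheme.Hom.isoOpensRange_hom_ι j).symm
  obtain ⟨φ₁, hφ₁⟩ := Spec.map_surjective (w₁ ≫ j.isoOpensRange.inv)
  obtain ⟨φ₂, hφ₂⟩ := Spec.map_surjective (w₂ ≫ j.isoOpensRange.inv)
  have hv₁ : Spec.map φ₁ ≫ j = v₁ := by
    rw [hφ₁, Category.assoc, hjr, hw₁]
  have hv₂ : Spec.map φ₂ ≫ j = v₂ := by
    rw [hφ₂, Category.assoc, hjr, hw₂]
  obtain ⟨ψ, hψ⟩ := Spec.map_surjective (j ≫ p)
  have hc₁ : ψ ≫ φ₁ = CommRingCat.ofHom (algebraMap k (DualNumber k)) := by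
    apply Spec.map_injective
    rw [Spec.map_comp, hψ, ← Category.assoc, hv₁, h₁]
  have hc₂ : ψ ≫ φ₂ = CommRingCat.ofHom (algebraMap k (DualNumber k)) := by
    apply Spec.map_injective
    rw [Spec.map_comp, hψ, ← Category.assoc, hv₂, h₂]
  have hu : FormallyUnramified (Spec.map ψ) := by
    rw [hψ]
    exact MorphismProperty.comp_mem _ _ _ inferInstance inferInstance
  rw [HasRingHomProperty.Spec_iff (P := @FormallyUnramified)] at hu
  algebraize [ψ.hom]
  obtain ⟨g₁, hg₁⟩ := algHom_data ψ φ₁ hc₁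
  obtain ⟨g₂, hg₂⟩ := algHom_data ψ φ₂ hc₂
  have hmod : φ₁ ≫ CommRingCat.ofHom (TrivSqZeroExt.fstHom k k k).toRingHom =
      φ₂ ≫ CommRingCat.ofHom (TrivSqZeroExt.fstHom k k k).toRingHom := by
    apply Spec.map_injective
    rw [← cancel_mono j, Spec.map_comp, Spec.map_comp, Category.assoc, Category.assoc, hv₁, hv₂]
    exact h₁₂
  have hg : g₁ = g₂ := by
    apply DualNum.ext_of_formallyUnramified
    intro a
    have h5 := congrArg (fun q ↦ q.hom a) hmod
    have h6 : (φ₁.hom a).fst = (φ₂.hom a).fst := h5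
    rw [← hg₁, ← hg₂] at h6
    exact h6
  have hφ : φ₁ = φ₂ := by
    ext1
    rw [← hg₁, ← hg₂, hg]
  rw [← hv₁, ← hv₂, hφ]

/-- Unramifiedness of a chart from uniqueness of dual number points. -/
theorem formallyUnramified_chart [IsAlgClosed k] {R : CommRingCat.{u}} {X : Scheme.{u}}
    (j : Spec R ⟶ X) [IsOpenImmersion j]
    (p : X ⟶ Spec (CommRingCat.of k)) [LocallyOfFiniteType p]
    (H : ∀ v₁ v₂ : Spec (CommRingCat.of (DualNumber k)) ⟶ X,
        v₁ ≫ p = Spec.map (CommRingCat.ofHom (algebraMap k (DualNumber k))) →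
        v₂ ≫ p = Spec.map (CommRingCat.ofHom (algebraMap k (DualNumber k))) →
        Spec.map (CommRingCat.ofHom (TrivSqZeroExt.fstHom k k k).toRingHom) ≫ v₁ =
          Spec.map (CommRingCat.ofHom (TrivSqZeroExt.fstHom k k k).toRingHom) ≫ v₂ →
        v₁ = v₂) : FormallyUnramified (j ≫ p) := by
  obtain ⟨ψ, hψ⟩ := Spec.map_surjective (j ≫ p)
  have hft : LocallyOfFiniteType (Spec.map ψ) := by
    rw [hψ]
    infer_instance
  rw [HasRingHomProperty.Spec_iff (P := @LocallyOfFiniteType)] at hft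
  rw [← hψ, HasRingHomProperty.Spec_iff (P := @FormallyUnramified)]
  algebraize [ψ.hom]
  refine DualNum.formallyUnramified_of_ext fun g₁ g₂ hg ↦ ?_
  have hc : ∀ g : R →ₐ[k] DualNumber k, (Spec.map (CommRingCat.ofHom g.toRingHom) ≫ j) ≫ p =
      Spec.map (CommRingCat.ofHom (algebraMap k (DualNumber k))) := by
    intro g
    rw [Category.assoc, ← hψ, ← Spec.map_comp]
    congr 1
    apply CommRingCat.hom_ext
    apply RingHom.ext
    intro c
    exact g.commutes c
  have h1 := H (Spec.map (CommRingCat.ofHom g₁.toRingHom) ≫ j)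
    (Spec.map (CommRingCat.ofHom g₂.toRingHom) ≫ j) (hc g₁) (hc g₂) (by
      rw [← Category.assoc, ← Category.assoc, ← Spec.map_comp, ← Spec.map_comp]
      congr 2
      ext a
      exact hg a)
  rw [cancel_mono] at h1
  have h2 := Spec.map_injective h1
  ext1 a
  exact congrArg (fun q ↦ q.hom a) h2

end K387.DualNumSch
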