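import Mathlib.RingTheory.Jacobson.Ring
import Mathlib.RingTheory.Finiteness.Nakayama
import Mathlib.RingTheory.Nakayama
import Mathlib.FieldTheory.IsAlgClosed.Basic
import Mathlib.RingTheory.Localization.AtPrime.Basic

/-!
# Surjectivity of finite ring maps from the fibres at maximal ideals
-/

set_option autoImplicit false
universe u v w

namespace K387.FinSurj

/-- A finite module all of whose fibres at maximal ideals vanish is zero. -/
theorem subsingleton_of_forall_maximal {A : Type u} [CommRing A] {M : Type v} [AddCommGroup M]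
    [Module A M] [Module.Finite A M]
    (key : ∀ m : Ideal A, m.IsMaximal → (m • ⊤ : Submodule A M) = ⊤) : Subsingleton M := by
  by_contra hne
  rw [not_subsingleton_iff_nontrivial] at hne
  have hann : Module.annihilator A M ≠ ⊤ := by
    intro h
    rw [Module.annihilator_eq_top_iff] at h
    exact not_subsingleton M h
  obtain ⟨m, hm, hle⟩ := Ideal.exists_le_maximal _ hann
  have hfg : (⊤ : Submodule A M).FG := Module.Finite.fg_top
  obtain ⟨r, hr1, hr2⟩ := Submodule.exists_sub_one_mem_and_smul_eq_zero_of_fg_of_le_smul m ⊤ hfg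
    (key m hm).ge
  have h1 : r ∈ m := hle (Module.mem_annihilator.2 fun ω ↦ hr2 ω trivial)
  exact hm.ne_top ((Ideal.eq_top_iff_one _).2 (by simpa using m.sub_mem h1 hr1))

/-- A finite algebra whose fibres at maximal ideals are generated by `1` is generated by `1`. -/
theorem surjective_of_forall_maximal {R : Type u} {B : Type v} [CommRing R] [CommRing B] [Algebra R B]
    [Module.Finite R B]
    (h : ∀ m : Ideal R, m.IsMaximal → ∀ b : B, ∃ r : R, b - algebraMap R B r ∈ m.map (algebraMap R B)) :
    Function.Surjective (algebraMap R B) := by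
  let N : Submodule R B := LinearMap.range (Algebra.linearMap R B)
  have hs : Subsingleton (B ⧸ N) := by
    apply subsingleton_of_forall_maximal (A := R)
    intro m hm
    rw [eq_top_iff]
    rintro x -
    obtain ⟨b, rfl⟩ := Submodule.Quotient.mk_surjective _ x
    obtain ⟨r, hr⟩ := h m hm b
    have h1 : (Submodule.Quotient.mk b : B ⧸ N) = Submodule.Quotient.mk (b - algebraMap R B r) := by
      rw [Submodule.Quotient.eq]
      simp only [sub_sub_cancel]
      exact ⟨r, rfl⟩
    rw [h1]
    have h2 : b - algebraMap R B r ∈ (m • ⊤ : Submodule R B) := by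
      rw [Ideal.smul_top_eq_map]
      exact hr
    have h3 : Submodule.map N.mkQ (m • ⊤) ≤ m • ⊤ := by
      rw [Submodule.map_smul'']
      exact Submodule.smul_mono le_rfl le_top
    exact h3 ⟨_, h2, rfl⟩
  intro b
  have h4 : (Submodule.Quotient.mk b : B ⧸ N) = 0 := Subsingleton.elim _ _
  rw [Submodule.Quotient.mk_eq_zero] at h4
  exact h4

/-- **Surjectivity criterion** for finite maps of algebras of finite type over an algebraically closed
field. -/
theorem surjective_of_fibers (k : Type u) {R : Type u} {B : Type u} [Field k] [IsAlgClosed k]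
    [CommRing R] [CommRing B] [Algebra k R] [Algebra R B] [Algebra k B] [IsScalarTower k R B]
    [Algebra.FiniteType k B] [Module.Finite R B]
    (hinj : ∀ n₁ n₂ : Ideal B, n₁.IsMaximal → n₂.IsMaximal →
      n₁.comap (algebraMap R B) = n₂.comap (algebraMap R B) → n₁ = n₂)
    (hT : ∀ n : Ideal B, n.IsMaximal → ∀ a ∈ n, ∃ s ∉ n,
      s * a ∈ (n.comap (algebraMap R B)).map (algebraMap R B)) :
    Function.Surjective (algebraMap R B) := by
  apply surjective_of_forall_maximal
  intro m hm b
  by_cases htop : m.map (algebraMap R B) = ⊤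
  · exact ⟨0, by rw [htop]; trivial⟩
  obtain ⟨n, hn, hmn⟩ := Ideal.exists_le_maximal _ htop
  have hcomap : ∀ n' : Ideal B, n'.IsMaximal → m.map (algebraMap R B) ≤ n' →
      n'.comap (algebraMap R B) = m := by
    intro n' hn' hle
    have h1 : m ≤ n'.comap (algebraMap R B) := Ideal.map_le_iff_le_comap.1 hle
    exact (hm.eq_of_le (Ideal.comap_ne_top _ hn'.ne_top) h1).symm
  have hnm : n ≤ m.map (algebraMap R B) := by
    intro a ha
    obtain ⟨s, hs, hsa⟩ := hT n hn a ha
    rw [hcomap n hn hmn] at hsa
    have h1 : Ideal.span {s} ⊔ m.map (algebraMap R B) = ⊤ := by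
      by_contra hne
      obtain ⟨n', hn', hle⟩ := Ideal.exists_le_maximal _ hne
      have h2 : n' = n := hinj n' n hn' hn (by
        rw [hcomap n hn hmn, hcomap n' hn' (le_sup_right.trans hle)])
      apply hs
      rw [← h2]
      exact hle (Ideal.mem_sup_left (Ideal.mem_span_singleton_self s))
    obtain ⟨x, hx, y, hy, hxy⟩ := Submodule.mem_sup.1 ((Ideal.eq_top_iff_one _).1 h1)
    obtain ⟨c, rfl⟩ := Ideal.mem_span_singleton'.1 hx
    have h3 : a = c * (s * a) + y * a := by
      calc a = (c * s + y) * a := by rw [hxy, one_mul]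
        _ = _ := by ring
    rw [h3]
    exact Ideal.add_mem _ (Ideal.mul_mem_left _ _ hsa) (Ideal.mul_mem_right _ _ hy)
  let _ : Field (B ⧸ n) := Ideal.Quotient.field n
  have hft : Algebra.FiniteType k (B ⧸ n) := inferInstance
  have hfin : Module.Finite k (B ⧸ n) := finite_of_finite_type_of_isJacobsonRing k (B ⧸ n)
  have hbij : Function.Bijective (algebraMap k (B ⧸ n)) :=
    IsAlgClosed.algebraMap_bijective_of_isIntegral
  obtain ⟨c, hc⟩ := hbij.2 (Ideal.Quotient.mk n b)
  refine ⟨algebraMap k R c, hnm ?_⟩
  rw [← Ideal.Quotient.eq_zero_iff_mem, map_sub, ← hc, ← IsScalarTower.algebraMap_apply k R B]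
  exact sub_self _

/-- Descent of a relation from the localization at a maximal ideal. -/
theorem exists_notMem_mul_mem {B : Type u} {O : Type v} [CommRing B] [CommRing O] [Algebra B O]
    (n : Ideal B) [n.IsPrime] [IsLocalization.AtPrime O n] (I : Ideal B) (a : B)
    (h : algebraMap B O a ∈ I.map (algebraMap B O)) : ∃ s ∉ n, s * a ∈ I := by
  rw [IsLocalization.mem_map_algebraMap_iff n.primeCompl O] at h
  obtain ⟨⟨c, s⟩, hcs⟩ := h
  simp only at hcs
  rw [← map_mul] at hcs
  obtain ⟨t, ht⟩ := (IsLocalization.eq_iff_exists n.primeCompl O).1 hcs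
  refine ⟨t * s, (t * s).2, ?_⟩
  have h1 : (t : B) * s * a = t * (a * s) := by ring
  rw [h1, ht]
  exact Ideal.mul_mem_left _ _ c.2

end K387.FinSurj
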