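import Groth.Agent.Mor.K387.FinSurj
import Mathlib.AlgebraicGeometry.Noetherian
import Mathlib.AlgebraicGeometry.Morphisms.Finite
import Mathlib.AlgebraicGeometry.Morphisms.Proper
import Mathlib.AlgebraicGeometry.ZariskisMainTheorem
import Mathlib.AlgebraicGeometry.Morphisms.ClosedImmersion

/-!
# Proper morphisms over an algebraically closed field injective on closed points and tangent vectors
-/

set_option autoImplicit false
universe u

open CategoryTheory CategoryTheory.Limits AlgebraicGeometry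

namespace K387.FinSurjSch

/-- The stalk condition translated to sections over affine opens. -/
theorem exists_of_stalk {X Y : Scheme.{u}} (f : X ⟶ Y) (V : Y.Opens) (hV : IsAffineOpen V)
    (hU : IsAffineOpen (f ⁻¹ᵁ V)) (x : X) (hx : x ∈ f ⁻¹ᵁ V)
    [IsNoetherianRing (X.presheaf.stalk x)]
    (hT : Ideal.map (f.stalkMap x).hom (IsLocalRing.maximalIdeal (Y.presheaf.stalk (f x))) ⊔
        IsLocalRing.maximalIdeal (X.presheaf.stalk x) ^ 2 =
          IsLocalRing.maximalIdeal (X.presheaf.stalk x))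
    (a : Γ(X, f ⁻¹ᵁ V)) (ha : a ∈ (hU.primeIdealOf ⟨x, hx⟩).asIdeal) :
    ∃ s ∉ (hU.primeIdealOf ⟨x, hx⟩).asIdeal,
      s * a ∈ ((hU.primeIdealOf ⟨x, hx⟩).asIdeal.comap (f.app V).hom).map (f.app V).hom := by
  have hmax : IsLocalRing.maximalIdeal (X.presheaf.stalk x) ≤
      Ideal.map (f.stalkMap x).hom (IsLocalRing.maximalIdeal (Y.presheaf.stalk (f x))) := by
    refine Submodule.le_of_le_smul_of_le_jacobson_bot (I := IsLocalRing.maximalIdeal _)
      (IsNoetherian.noetherian _) (IsLocalRing.maximalIdeal_le_jacobson _) ?_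
    rw [smul_eq_mul, ← pow_two]
    exact hT.ge
  let _ := Y.presheaf.algebra_section_stalk ⟨f x, hx⟩
  let _ := X.presheaf.algebra_section_stalk ⟨x, hx⟩
  have hlY : IsLocalization.AtPrime (Y.presheaf.stalk (f x)) (hV.primeIdealOf ⟨f x, hx⟩).asIdeal :=
    hV.isLocalization_stalk ⟨f x, hx⟩
  have hlX : IsLocalization.AtPrime (X.presheaf.stalk x) (hU.primeIdealOf ⟨x, hx⟩).asIdeal :=
    hU.isLocalization_stalk ⟨x, hx⟩
  have hcomap : (hU.primeIdealOf ⟨x, hx⟩).asIdeal.comap (f.app V).hom =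
      (hV.primeIdealOf ⟨f x, hx⟩).asIdeal := by
    have h1 := IsAffineOpen.comap_primeIdealOf_appLE (f := f) V hV (f ⁻¹ᵁ V) hU le_rfl hx
    have h2 := congrArg PrimeSpectrum.asIdeal h1
    rw [← h2, Scheme.Hom.app_eq_appLE]
    rfl
  apply FinSurj.exists_notMem_mul_mem (O := X.presheaf.stalk x)
  have h3 : algebraMap Γ(X, f ⁻¹ᵁ V) (X.presheaf.stalk x) a ∈
      IsLocalRing.maximalIdeal (X.presheaf.stalk x) := by
    rw [← IsLocalization.AtPrime.map_eq_maximalIdeal (hU.primeIdealOf ⟨x, hx⟩).asIdeal]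
    exact Ideal.mem_map_of_mem _ ha
  have h4 := hmax h3
  rw [← IsLocalization.AtPrime.map_eq_maximalIdeal (hV.primeIdealOf ⟨f x, hx⟩).asIdeal
    (Y.presheaf.stalk (f x)), Ideal.map_map] at h4
  rw [hcomap, Ideal.map_map]
  have h5 : (f.stalkMap x).hom.comp (algebraMap Γ(Y, V) (Y.presheaf.stalk (f x))) =
      (algebraMap Γ(X, f ⁻¹ᵁ V) (X.presheaf.stalk x)).comp (f.app V).hom := by
    have h6 := Scheme.Hom.germ_stalkMap f V x hx
    exact congrArg CommRingCat.Hom.hom h6
  rw [← h5]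
  exact h4

/-- A proper morphism of Jacobson schemes injective on closed points is finite. -/
theorem isFinite_of_injOn {X Y : Scheme.{u}} [JacobsonSpace X] [JacobsonSpace Y] (f : X ⟶ Y) [IsProper f]
    (hinj : Set.InjOn f {x : X | IsClosed ({x} : Set X)}) : IsFinite f := by
  have h1 : ∀ y : Y, IsClosed ({y} : Set Y) → (f ⁻¹' {y}).Finite := by
    intro y hy
    have hZ : IsClosed (f ⁻¹' {y}) := hy.preimage f.continuous
    have hsub : (f ⁻¹' {y} ∩ closedPoints X).Subsingleton := by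
      rintro a ⟨ha1, ha2⟩ b ⟨hb1, hb2⟩
      exact hinj ha2 hb2 (ha1.trans hb1.symm)
    have hcl := JacobsonSpace.closure_inter_closedPoints_eq_closure hZ.isLocallyClosed
    rw [hZ.closure_eq] at hcl
    rw [← hcl]
    rcases hsub.eq_empty_or_singleton with h | ⟨x, hx⟩
    · rw [h, closure_empty]
      exact Set.finite_empty
    · rw [hx]
      have hxc : IsClosed ({x} : Set X) := by
        have : x ∈ f ⁻¹' {y} ∩ closedPoints X := by rw [hx]; exact rfl
        exact this.2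
      rw [hxc.closure_eq]
      exact Set.finite_singleton x
  choose V hyV hV using fun y : closedPoints Y ↦
    exists_isFinite_morphismRestrict_of_finite_preimage_singleton f y.1 (h1 y.1 y.2)
  have hcov : ⨆ y, V y = ⊤ := by
    rw [eq_top_iff]
    intro z _
    by_contra hz
    obtain ⟨y, hy1, hy2⟩ := nonempty_inter_closedPoints (X := Y)
      (Z := ((⨆ y, V y : Y.Opens) : Set Y)ᶜ) ⟨z, hz⟩ (⨆ y, V y).2.isClosed_compl.isLocallyClosed
    exact hy1 (TopologicalSpace.Opens.mem_iSup.2 ⟨⟨y, hy2⟩, hyV ⟨y, hy2⟩⟩)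
  rw [IsZariskiLocalAtTarget.iff_of_iSup_eq_top (P := @IsFinite) V hcov]
  exact hV

/-- The surjectivity on sections over an affine open. -/
theorem surjective_app {k : Type u} [Field k] [IsAlgClosed k]
    {X Y : Scheme.{u}} (f : X ⟶ Y) (q : Y ⟶ Spec (CommRingCat.of k)) [LocallyOfFiniteType q]
    [IsFinite f] [IsLocallyNoetherian X] [JacobsonSpace X]
    (hinj : Set.InjOn f {x : X | IsClosed ({x} : Set X)})
    (hT : ∀ x : X, IsClosed ({x} : Set X) →
      Ideal.map (f.stalkMap x).hom (IsLocalRing.maximalIdeal (Y.presheaf.stalk (f x))) ⊔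
        IsLocalRing.maximalIdeal (X.presheaf.stalk x) ^ 2 = IsLocalRing.maximalIdeal (X.presheaf.stalk x))
    (V : Y.Opens) (hV : IsAffineOpen V) : Function.Surjective (f.app V) := by
  have hU : IsAffineOpen (f ⁻¹ᵁ V) := hV.preimage f
  obtain ⟨ψR, hψR⟩ := Spec.map_surjective (hV.fromSpec ≫ q)
  obtain ⟨ψB, hψB⟩ := Spec.map_surjective (hU.fromSpec ≫ f ≫ q)
  have hfr : Spec.map (f.app V) ≫ hV.fromSpec = hU.fromSpec ≫ f := by
    rw [Scheme.Hom.app_eq_appLE]
    exact IsAffineOpen.SpecMap_appLE_fromSpec f hV hU le_rfl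
  have hcomp : ψR ≫ f.app V = ψB := by
    apply Spec.map_injective
    rw [Spec.map_comp, hψR, hψB, ← Category.assoc, hfr, Category.assoc]
  have hft : LocallyOfFiniteType (Spec.map ψB) := by
    rw [hψB]
    infer_instance
  rw [HasRingHomProperty.Spec_iff (P := @LocallyOfFiniteType)] at hft
  have hfin : (f.app V).hom.Finite := IsFinite.finite_app (f := f) V hV
  algebraize [ψR.hom, (f.app V).hom, ψB.hom]
  have htow : IsScalarTower k Γ(Y, V) Γ(X, f ⁻¹ᵁ V) := by
    refine IsScalarTower.of_algebraMap_eq' ?_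
    exact congrArg CommRingCat.Hom.hom hcomp.symm
  have hcl : ∀ n : Ideal Γ(X, f ⁻¹ᵁ V), ∀ hn : n.IsMaximal,
      IsClosed ({hU.fromSpec ⟨n, hn.isPrime⟩} : Set X) := by
    intro n hn
    have h1 := hU.fromSpec.isOpenEmbedding.preimage_closedPoints
    have h2 : (⟨n, hn.isPrime⟩ : PrimeSpectrum Γ(X, f ⁻¹ᵁ V)) ∈
        closedPoints (PrimeSpectrum Γ(X, f ⁻¹ᵁ V)) :=
      (PrimeSpectrum.isClosed_singleton_iff_isMaximal _).2 hn
    have h3 : (⟨n, hn.isPrime⟩ : PrimeSpectrum Γ(X, f ⁻¹ᵁ V)) ∈ hU.fromSpec ⁻¹' closedPoints X := by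
      rw [h1]
      exact h2
    exact h3
  refine FinSurj.surjective_of_fibers k ?_ ?_
  · intro n₁ n₂ hn₁ hn₂ h12
    have hf : ∀ z : ↥(Spec Γ(X, f ⁻¹ᵁ V)), f (hU.fromSpec z) = hV.fromSpec (Spec.map (f.app V) z) := by
      intro z
      rw [← Scheme.Hom.comp_apply, ← Scheme.Hom.comp_apply, hfr]
    have h1 : hU.fromSpec ⟨n₁, hn₁.isPrime⟩ = hU.fromSpec ⟨n₂, hn₂.isPrime⟩ := by
      apply hinj (hcl n₁ hn₁) (hcl n₂ hn₂)
      refine (hf _).trans (Eq.trans ?_ (hf _).symm)
      exact congrArg hV.fromSpec (PrimeSpectrum.ext h12)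
    have h2 := hU.fromSpec.isOpenEmbedding.injective h1
    exact congrArg PrimeSpectrum.asIdeal h2
  · intro n hn a ha
    let x := hU.fromSpec ⟨n, hn.isPrime⟩
    have hx : x ∈ f ⁻¹ᵁ V := by
      have : x ∈ Set.range hU.fromSpec := ⟨_, rfl⟩
      rw [hU.range_fromSpec] at this
      exact this
    have hpr : hU.primeIdealOf ⟨x, hx⟩ = ⟨n, hn.isPrime⟩ := by
      apply hU.fromSpec.isOpenEmbedding.injective
      exact hU.fromSpec_primeIdealOf ⟨x, hx⟩
    have h1 := exists_of_stalk f V hV hU x hx (hT x (hcl n hn)) a (by rw [hpr]; exact ha)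
    rw [hpr] at h1
    exact h1

end K387.FinSurjSch
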