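import Groth.Agent.EGA2.K43.RelTw

/-!
# Sections of the twisting sheaves of a relative Proj given by fractions

`IsFr lam e hU t s`: the section `e` of `O(n)` is the fraction `t / s` in the chart over `U` (in the form `s e = t`).
* `exists_isFr`: such sections over the opens inside `D_+(s)`, generators inside `D_+(s) ∩ D_+(t)`;
* `IsFr.basicOpen`, `IsFr.of_eq`: passage to a smaller affine open of the base.
-/

set_option autoImplicit false
universe u

open CategoryTheory CategoryTheory.Limits AlgebraicGeometry TopologicalSpace Opposite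

noncomputable section

namespace K387.FracTw

open Groth.Agent.Fdesc.LocGen Groth.Agent.Ega2.Nv K43.GrFrac K43.RelTw RelProj

variable {S P : Scheme.{u}} {𝒮 : QCGrAlg S} {p : P ⟶ S}
  {chart : ∀ (U : S.Opens) (hU : IsAffineOpen U), (((p ⁻¹ᵁ U : P.Opens) : Scheme.{u}) ≅ Proj (𝒮.deg U hU))}
  {n : ℤ} {L : P.Modules}
  {lam : ∀ (U : S.Opens) (hU : IsAffineOpen U),
    L ⟶ (Scheme.Modules.pushforward (emb p chart U hU)).obj (GrTwist.twist (𝒮.deg U hU) n)}

variable (lam) in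
/-- `e` is the fraction `t / s` in the chart over `U`. -/
def IsFr {W : P.Opens} (e : Γ(L, W)) {U : S.Opens} (hU : IsAffineOpen U) (t s : 𝒮.presheaf.obj (op U)) : Prop :=
  ∀ y : (emb p chart U hU ⁻¹ᵁ W : (Proj (𝒮.deg U hU)).Opens),
    algebraMap _ (GrTwist.Loc (𝒮.deg U hU) y.1) s * GrTwist.val (rdU lam hU e) y =
      algebraMap _ (GrTwist.Loc (𝒮.deg U hU) y.1) t

theorem IsFr.res {W W' : P.Opens} {e : Γ(L, W)} {U : S.Opens} {hU : IsAffineOpen U} {t s : 𝒮.presheaf.obj (op U)}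
    (h : IsFr lam e hU t s) (hW : W' ≤ W) : IsFr lam (Groth.Agent.Fdesc.LocGen.res L hW e) hU t s := by
  intro y
  have h1 := h ⟨y.1, (emb p chart U hU).preimage_mono hW y.2⟩
  rw [rdU, rd_res, val_res]
  exact h1

theorem exists_isFr (hL : IsRelTwist 𝒮 p chart n L lam) {U : S.Opens} (hU : IsAffineOpen U) {i j : ℕ}
    (t : 𝒮.deg U hU i) (s : 𝒮.deg U hU j) (h : (i : ℤ) = j + n) {W : P.Opens} (hs : W ≤ Dp chart hU s.1) :
    ∃ e : Γ(L, W), IsFr lam e hU t.1 s.1 ∧ (W ≤ Dp chart hU t.1 → IsGen e) := by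
  have hWU : W ≤ p ⁻¹ᵁ U := hs.trans (Dp_le hU s.1)
  have hs' : ∀ x ∈ emb p chart U hU ⁻¹ᵁ W, s.1 ∉ x.asHomogeneousIdeal := fun x hx => by
    have h1 := (emb p chart U hU).preimage_mono hs hx
    rw [emb_preimage_Dp] at h1
    exact h1
  obtain ⟨e, he⟩ := (hL.bijective U hU W hWU).2 (fracSec n t s h (emb p chart U hU ⁻¹ᵁ W) hs')
  have he' : rdU lam hU e = fracSec n t s h (emb p chart U hU ⁻¹ᵁ W) hs' := he
  refine ⟨e, ?_, ?_⟩
  · intro y
    rw [he']
    have h1 : GrTwist.val (V := emb p chart U hU ⁻¹ᵁ W) (fracSec n t s h (emb p chart U hU ⁻¹ᵁ W) hs') y =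
        Localization.mk t.1 ⟨s.1, hs' y.1 y.2⟩ := rfl
    rw [h1, ← Localization.mk_one_eq_algebraMap, ← Localization.mk_one_eq_algebraMap, Localization.mk_mul,
      Localization.mk_eq_mk_iff, Localization.r_iff_exists]
    exact ⟨1, by simp⟩
  · intro ht
    rw [← isGen_rd_iff (emb p chart U hU) (lam U hU) (le_opensRange chart hU hWU)
      (fun V hV => hL.bijective U hU V (hV.trans hWU)), ← rdU, he']
    refine isGen_fracSec n t s h _ hs' fun x hx => ?_
    have h1 := (emb p chart U hU).preimage_mono ht hx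
    rw [emb_preimage_Dp] at h1
    exact h1

/-- Passage to a basic open of the base. -/
theorem IsFr.basicOpen (hP : IsRelProj 𝒮 p chart) (hL : IsRelTwist 𝒮 p chart n L lam)
    {W : P.Opens} {e : Γ(L, W)} {U : S.Opens} {hU : IsAffineOpen U} {t s : 𝒮.presheaf.obj (op U)}
    (h : IsFr lam e hU t s) (r : Γ(S, U)) :
    IsFr lam e (hU.basicOpen r) ((𝒮.presheaf.map (homOfLE (S.basicOpen_le r)).op).hom t)
      ((𝒮.presheaf.map (homOfLE (S.basicOpen_le r)).op).hom s) := by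
  intro y
  have hy' : (emb p chart U hU).base (ProjectiveSpectrum.comap
      (𝒮.res hU (hU.basicOpen r) (S.basicOpen_le r)) (𝒮.irrelevant_le_map U hU r) y.1) ∈ W := by
    have h1 := map_res_emb hP U hU r
    have h2 : (emb p chart U hU).base (ProjectiveSpectrum.comap
      (𝒮.res hU (hU.basicOpen r) (S.basicOpen_le r)) (𝒮.irrelevant_le_map U hU r) y.1) =
      emb p chart (S.basicOpen r) (hU.basicOpen r) y.1 :=
      congrArg (fun k : Proj (𝒮.deg (S.basicOpen r) (hU.basicOpen r)) ⟶ P => k y.1) h1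
    rw [h2]
    exact y.2
  have h3 := hL.compat U hU r W e y.1 y.2 hy'
  have h4 := congrArg (GrTwist.locMap (𝒮.res hU (hU.basicOpen r) (S.basicOpen_le r))
    (𝒮.irrelevant_le_map U hU r) y.1) (h ⟨_, hy'⟩)
  rw [map_mul] at h4
  have h5 : ∀ z : 𝒮.presheaf.obj (op U), GrTwist.locMap (𝒮.res hU (hU.basicOpen r) (S.basicOpen_le r))
      (𝒮.irrelevant_le_map U hU r) y.1 (algebraMap _ _ z) =
      algebraMap _ (GrTwist.Loc (𝒮.deg (S.basicOpen r) (hU.basicOpen r)) y.1)
        ((𝒮.presheaf.map (homOfLE (S.basicOpen_le r)).op).hom z) := fun z =>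
    Localization.localRingHom_to_map _ _ _ _ _
  rw [h5, h5] at h4
  exact (congrArg (fun v => algebraMap _ (GrTwist.Loc (𝒮.deg (S.basicOpen r) (hU.basicOpen r)) y.1)
    ((𝒮.presheaf.map (homOfLE (S.basicOpen_le r)).op).hom s) * v) h3).trans h4

theorem IsFr.of_eq (hP : IsRelProj 𝒮 p chart) (hL : IsRelTwist 𝒮 p chart n L lam)
    {W : P.Opens} {e : Γ(L, W)} {U : S.Opens} {hU : IsAffineOpen U} {t s : 𝒮.presheaf.obj (op U)}
    (h : IsFr lam e hU t s) (r : Γ(S, U)) {V : S.Opens} (hV : IsAffineOpen V) (hVU : V ≤ U) (hr : V = S.basicOpen r) :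
    IsFr lam e hV ((𝒮.presheaf.map (homOfLE hVU).op).hom t) ((𝒮.presheaf.map (homOfLE hVU).op).hom s) := by
  subst hr
  exact h.basicOpen hP hL r

/-- The relation between two fractions, read in the localizations. -/
theorem IsFr.rel {W : P.Opens} {e e' : Γ(L, W)} {U : S.Opens} {hU : IsAffineOpen U} {t s t' s' : 𝒮.presheaf.obj (op U)}
    (h : IsFr lam e hU t s) (h' : IsFr lam e' hU t' s') (c : Γ(P, W)) (hc : e = c • e')
    (y : (emb p chart U hU ⁻¹ᵁ W : (Proj (𝒮.deg U hU)).Opens)) :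
    ((show GrTwist.O (𝒜 := 𝒮.deg U hU) (op (emb p chart U hU ⁻¹ᵁ W)) from
      (emb p chart U hU).app W c).1 y).val * algebraMap _ (GrTwist.Loc (𝒮.deg U hU) y.1) (t' * s) =
      algebraMap _ (GrTwist.Loc (𝒮.deg U hU) y.1) (t * s') := by
  have h1 := h y
  have h2 := h' y
  subst hc
  rw [rdU_smul hU, val_smul] at h1
  rw [map_mul, map_mul, ← h1, ← h2]
  ring

theorem Dp_mul_le_left {U : S.Opens} (hU : IsAffineOpen U) (a b : 𝒮.presheaf.obj (op U)) :
    Dp chart hU (a * b) ≤ Dp chart hU a := by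
  refine (emb p chart U hU).image_mono ?_
  intro y hy h
  exact hy (y.asHomogeneousIdeal.toIdeal.mul_mem_right b h)

theorem Dp_mul_le_right {U : S.Opens} (hU : IsAffineOpen U) (a b : 𝒮.presheaf.obj (op U)) :
    Dp chart hU (a * b) ≤ Dp chart hU b := by
  rw [mul_comm]; exact Dp_mul_le_left hU b a

theorem Dp_basicOpen_le (hP : IsRelProj 𝒮 p chart) {U : S.Opens} (hU : IsAffineOpen U) (r : Γ(S, U))
    (a : 𝒮.presheaf.obj (op U)) :
    Dp chart (hU.basicOpen r) ((𝒮.presheaf.map (homOfLE (S.basicOpen_le r)).op).hom a) ≤ Dp chart hU a := by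
  rintro _ ⟨y, hy, rfl⟩
  have h1 := map_res_emb hP U hU r
  have h2 : emb p chart U hU (ProjectiveSpectrum.comap
      (𝒮.res hU (hU.basicOpen r) (S.basicOpen_le r)) (𝒮.irrelevant_le_map U hU r) y) =
      emb p chart (S.basicOpen r) (hU.basicOpen r) y :=
      congrArg (fun k : Proj (𝒮.deg (S.basicOpen r) (hU.basicOpen r)) ⟶ P => k y) h1
  have h3 := (emb_mem_Dp (p := p) (chart := chart) hU a (ProjectiveSpectrum.comap
      (𝒮.res hU (hU.basicOpen r) (S.basicOpen_le r)) (𝒮.irrelevant_le_map U hU r) y)).mpr hy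
  rw [h2] at h3
  exact h3

theorem Dp_le_of_eq (hP : IsRelProj 𝒮 p chart) {U : S.Opens} (hU : IsAffineOpen U) (r : Γ(S, U))
    {V : S.Opens} (hV : IsAffineOpen V) (hVU : V ≤ U) (hr : V = S.basicOpen r) (a : 𝒮.presheaf.obj (op U)) :
    Dp chart hV ((𝒮.presheaf.map (homOfLE hVU).op).hom a) ≤ Dp chart hU a := by
  subst hr
  exact Dp_basicOpen_le hP hU r a

end K387.FracTw
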