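import Groth.Agent.Mor.K387.Points
import Mathlib.AlgebraicGeometry.Morphisms.Proper

/-!
# Lifting properties of immersions

An immersion satisfies the valuative lifting property relative to squares whose closed point already
lifts, and a morphism from an integral scheme whose points over a dense subset lift along an immersion
lifts on a nonempty open.
-/

set_option autoImplicit false
universe u

open CategoryTheory CategoryTheory.Limits AlgebraicGeometry

namespace K387.Immersion

/-- The valuative lifting property of immersions. -/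
theorem hasLift {X Y : Scheme.{u}} (f : Y ⟶ X) [IsImmersion f] (S : ValuativeCommSq f)
    (l₀ : Spec (CommRingCat.of (IsLocalRing.ResidueField S.R)) ⟶ Y)
    (hl₀ : l₀ ≫ f = Spec.map (CommRingCat.ofHom (IsLocalRing.residue S.R)) ≫ S.i₂) :
    S.commSq.HasLift := by
  have z : ↥(Spec (CommRingCat.of (IsLocalRing.ResidueField S.R))) :=
    IsLocalRing.closedPoint (IsLocalRing.ResidueField S.R)
  have h0 : Spec.map (CommRingCat.ofHom (IsLocalRing.residue S.R)) z = IsLocalRing.closedPoint S.R := by
    have h2 : z = IsLocalRing.closedPoint (IsLocalRing.ResidueField S.R) := Subsingleton.elim _ _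
    rw [h2]
    exact Points.specMap_residue_closedPoint
  have h1 : (l₀ ≫ f) z = (Spec.map (CommRingCat.ofHom (IsLocalRing.residue S.R)) ≫ S.i₂) z := by
    rw [hl₀]
  rw [Scheme.Hom.comp_apply, Scheme.Hom.comp_apply, h0] at h1
  have h2 : S.i₂ (IsLocalRing.closedPoint S.R) ∈ f.coborderRange := by
    rw [← h1]
    exact subset_coborder ⟨_, rfl⟩
  obtain ⟨i₂', hi₂'⟩ := Points.exists_lift_opens S.i₂ f.coborderRange h2
  have hex : ValuativeCriterion.Existence f.liftCoborder := by
    have h3 : UniversallyClosed f.liftCoborder := inferInstance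
    rw [UniversallyClosed.eq_valuativeCriterion] at h3
    exact h3.1
  have hsq : CommSq S.i₁ (Spec.map (CommRingCat.ofHom (algebraMap S.R S.K))) f.liftCoborder i₂' := by
    refine ⟨?_⟩
    rw [← cancel_mono f.coborderRange.ι, Category.assoc, Category.assoc, f.liftCoborder_ι, hi₂']
    exact S.commSq.w
  obtain ⟨l, hl1, hl2⟩ := (hex { R := S.R, K := S.K, i₁ := S.i₁, i₂ := i₂', commSq := hsq }).exists_lift
  refine ⟨⟨⟨l, hl1, ?_⟩⟩⟩
  have h4 : l ≫ f.liftCoborder ≫ f.coborderRange.ι = i₂' ≫ f.coborderRange.ι := by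
    rw [← Category.assoc]
    exact congrArg (· ≫ f.coborderRange.ι) hl2
  rw [f.liftCoborder_ι, hi₂'] at h4
  exact h4

/-- Lifting along an immersion of morphisms from an integral scheme, from dense points to a nonempty
open. -/
theorem exists_open_lift {X Y A : Scheme.{u}} [IsIntegral A] (f : Y ⟶ X) [IsImmersion f]
    (s : A ⟶ X) (D : Set A) (hD : Dense D)
    (h : ∀ p ∈ D, ∃ l : Spec (A.residueField p) ⟶ Y, l ≫ f = A.fromSpecResidueField p ≫ s) :
    ∃ U : A.Opens, (U : Set A).Nonempty ∧ ∃ l : (U : Scheme.{u}) ⟶ Y, l ≫ f = U.ι ≫ s := by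
  have hmem : ∀ p ∈ D, s p ∈ Set.range f := by
    intro p hp
    obtain ⟨l, hl⟩ := h p hp
    have z : ↥(Spec (A.residueField p)) := IsLocalRing.closedPoint (A.residueField p)
    have h1 : (l ≫ f) z = (A.fromSpecResidueField p ≫ s) z := by rw [hl]
    rw [Scheme.Hom.comp_apply, Scheme.Hom.comp_apply, Scheme.fromSpecResidueField_apply] at h1
    exact ⟨_, h1⟩
  obtain ⟨p₀, hp₀⟩ := hD.nonempty
  have hp₀' : p₀ ∈ s ⁻¹ᵁ f.coborderRange := subset_coborder (hmem p₀ hp₀)
  refine ⟨s ⁻¹ᵁ f.coborderRange, ⟨p₀, hp₀'⟩, ?_⟩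
  set V : A.Opens := s ⁻¹ᵁ f.coborderRange with hV
  let g : (V : Scheme.{u}) ⟶ (f.coborderRange : Scheme.{u}) := s ∣_ f.coborderRange
  have hg : g ≫ f.coborderRange.ι = V.ι ≫ s := morphismRestrict_ι _ _
  have hsurj : Surjective (pullback.snd f.liftCoborder g) := by
    refine ⟨fun x ↦ ?_⟩
    have h1 : IsClosed (Set.range (pullback.snd f.liftCoborder g)) :=
      (pullback.snd f.liftCoborder g).isClosedEmbedding.isClosed_range
    have h2 : Dense (V.ι ⁻¹' D) := hD.preimage V.ι.isOpenEmbedding.isOpenMap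
    have h3 : V.ι ⁻¹' D ⊆ Set.range (pullback.snd f.liftCoborder g) := by
      intro y hy
      obtain ⟨w, hw⟩ := hmem _ hy
      have h4 : f.liftCoborder w = g y := by
        apply f.coborderRange.ι.isOpenEmbedding.injective
        rw [← Scheme.Hom.comp_apply, ← Scheme.Hom.comp_apply, f.liftCoborder_ι, hg, hw,
          Scheme.Hom.comp_apply]
      obtain ⟨t, -, ht⟩ := Scheme.Pullback.exists_preimage_pullback w y h4
      exact ⟨t, ht⟩
    have h5 : Set.range (pullback.snd f.liftCoborder g) = Set.univ := by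
      rw [← h1.closure_eq, ← (h2.mono h3).closure_eq]
    have h6 : x ∈ Set.range (pullback.snd f.liftCoborder g) := by rw [h5]; trivial
    exact h6
  have hiso : IsIso (pullback.snd f.liftCoborder g) := isIso_of_isClosedImmersion_of_surjective _
  refine ⟨inv (pullback.snd f.liftCoborder g) ≫ pullback.fst f.liftCoborder g, ?_⟩
  rw [Category.assoc, IsIso.inv_comp_eq, ← hg, ← Category.assoc, ← pullback.condition, Category.assoc,
    f.liftCoborder_ι]

end K387.Immersion
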