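import Mathlib.RingTheory.Kaehler.Basic

/-!
# Transport of the universal property of Kähler differentials along ring isomorphisms
-/

set_option autoImplicit false
universe u v w

open scoped TensorProduct

namespace K387.KaehlerTransport

variable {A B A' B' M : Type*} [CommRing A] [CommRing B] [Algebra A B] [CommRing A'] [CommRing B']
  [Algebra A' B'] [AddCommGroup M] [Module B' M]

/-- A semilinear map out of `Ω[B⁄A]` compatible with a bijective map out of `Ω[B'⁄A']` along
isomorphisms `A ≃ A'`, `B ≃ B'` is bijective. -/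
theorem bijective_of_ringEquiv (α : A ≃+* A') (β : B ≃+* B')
    (hαβ : ∀ a, β (algebraMap A B a) = algebraMap A' B' (α a))
    (L : Ω[B'⁄A'] →ₗ[B'] M) (hL : Function.Bijective L)
    (T : Ω[B⁄A] →+ M) (hTs : ∀ (b : B) x, T (b • x) = β b • T x)
    (hTD : ∀ b : B, T (KaehlerDifferential.D A B b) = L (KaehlerDifferential.D A' B' (β b))) :
    Function.Bijective T := by
  let _ : Module B' Ω[B⁄A] := Module.compHom _ (β.symm : B' →+* B)
  let _ : Module A' Ω[B⁄A] := Module.compHom _ ((β.symm : B' →+* B).comp (algebraMap A' B'))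
  have hsm : ∀ (b : B') (x : Ω[B⁄A]), b • x = β.symm b • x := fun _ _ ↦ rfl
  have hsa : ∀ (a : A') (x : Ω[B⁄A]), a • x = β.symm (algebraMap A' B' a) • x := fun _ _ ↦ rfl
  have _ : IsScalarTower A' B' Ω[B⁄A] := ⟨fun a b x ↦ by
    rw [hsm, hsa, hsm, Algebra.smul_def, map_mul, mul_smul]⟩
  have hβ : ∀ a : A', β.symm (algebraMap A' B' a) = algebraMap A B (α.symm a) := by
    intro a
    rw [RingEquiv.symm_apply_eq, hαβ, RingEquiv.apply_symm_apply]
  let D' : Derivation A' B' Ω[B⁄A] :=
    { toFun := fun g ↦ KaehlerDifferential.D A B (β.symm g)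
      map_add' := fun a b ↦ by rw [map_add, map_add]
      map_smul' := fun a b ↦ by
        rw [RingHom.id_apply, hsa, Algebra.smul_def, map_mul, hβ, Derivation.leibniz,
          Derivation.map_algebraMap, smul_zero, add_zero]
      map_one_eq_zero' := by
        change KaehlerDifferential.D A B (β.symm 1) = 0
        rw [map_one, Derivation.map_one_eq_zero]
      leibniz' := fun a b ↦ by
        change KaehlerDifferential.D A B (β.symm (a * b)) =
          β.symm a • KaehlerDifferential.D A B (β.symm b) +
            β.symm b • KaehlerDifferential.D A B (β.symm a)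
        rw [map_mul, Derivation.leibniz] }
  let V : Ω[B'⁄A'] →ₗ[B'] Ω[B⁄A] := D'.liftKaehlerDifferential
  have hV : ∀ g, V (KaehlerDifferential.D A' B' g) = KaehlerDifferential.D A B (β.symm g) :=
    fun g ↦ D'.liftKaehlerDifferential_comp_D g
  have h1 : ∀ x, T (V x) = L x := by
    intro x
    have hx : x ∈ Submodule.span B' (Set.range (KaehlerDifferential.D A' B')) := by
      rw [KaehlerDifferential.span_range_derivation]; trivial
    induction hx using Submodule.span_induction with
    | mem y hy => obtain ⟨b, rfl⟩ := hy; rw [hV, hTD, RingEquiv.apply_symm_apply]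
    | zero => rw [map_zero, map_zero, map_zero]
    | add y z _ _ hy hz => rw [map_add, map_add, map_add, hy, hz]
    | smul b y _ hy =>
      rw [V.map_smul, hsm, hTs, RingEquiv.apply_symm_apply, hy, L.map_smul]
  have h2 : ∀ x : Ω[B⁄A], ∃ y, T x = L y ∧ V y = x := by
    intro x
    have hx : x ∈ Submodule.span B (Set.range (KaehlerDifferential.D A B)) := by
      rw [KaehlerDifferential.span_range_derivation]; trivial
    induction hx using Submodule.span_induction with
    | mem y hy =>
      obtain ⟨b, rfl⟩ := hy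
      exact ⟨_, hTD b, by rw [hV, RingEquiv.symm_apply_apply]⟩
    | zero => exact ⟨0, by rw [map_zero, map_zero], map_zero _⟩
    | add y z _ _ hy hz =>
      obtain ⟨y', hy1, hy2⟩ := hy
      obtain ⟨z', hz1, hz2⟩ := hz
      exact ⟨y' + z', by rw [map_add, map_add, hy1, hz1], by rw [map_add, hy2, hz2]⟩
    | smul b y _ hy =>
      obtain ⟨y', hy1, hy2⟩ := hy
      exact ⟨β b • y', by rw [hTs, map_smul, hy1], by
        rw [map_smul, hsm, RingEquiv.symm_apply_apply, hy2]⟩
  constructor
  · rw [injective_iff_map_eq_zero]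
    intro x hx
    obtain ⟨y, hy1, hy2⟩ := h2 x
    rw [hx] at hy1
    have h3 : y = 0 := hL.1 (by rw [← hy1, map_zero])
    rw [← hy2, h3, map_zero]
  · intro m
    obtain ⟨y, rfl⟩ := hL.2 m
    exact ⟨V y, h1 y⟩

end K387.KaehlerTransport
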