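import Groth.Agent.EGA2.K41.NV
import Groth.Agent.Fdesc.LocGen
import Mathlib.AlgebraicGeometry.Morphisms.QuasiSeparated

/-!
# Extension of sections over the nonvanishing open of a homogeneous section of a line algebra

`𝒜` is a line algebra on `X` (locally `O[T]`), `s ∈ 𝒜(W)` homogeneous of degree `n`.
* `exists_pow_mul_eq_zero`: `W` quasi-compact and `z` vanishing on `nv s n` ==> `s ^ k * z = 0`;
* `exists_extend`: `W` quasi-compact, quasi-separated, `y` homogeneous of degree `e` over `nv s n` ==> `s ^ k * y` extends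
  to a homogeneous section over `W`.
-/

set_option autoImplicit false
universe u
open CategoryTheory CategoryTheory.Limits AlgebraicGeometry TopologicalSpace Opposite
open scoped HomogeneousIdeal

noncomputable section

namespace K387.LineExt
open K41.LineAlg K41.LineRing K41.NV

variable {X : Scheme.{u}} {𝒜 : RelProj.QCGrAlg X}

theorem ext_of_cover {ι : Type*} {V : X.Opens} (U : ι → X.Opens) (hU : ∀ i, U i ≤ V) (hc : V ≤ ⨆ i, U i)
    {a b : 𝒜.presheaf.obj (op V)} (h : ∀ i, res 𝒜 (hU i) a = res 𝒜 (hU i) b) : a = b :=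
  Groth.Agent.Fdesc.LocGen.res_ext 𝒜.toModule U hU hc (a := a) (b := b) h

theorem glue {ι : Type*} {V : X.Opens} (U : ι → X.Opens) (hU : ∀ i, U i ≤ V) (hc : V ≤ ⨆ i, U i)
    (s : ∀ i, 𝒜.presheaf.obj (op (U i)))
    (h : ∀ i j, res 𝒜 (inf_le_left : U i ⊓ U j ≤ U i) (s i) = res 𝒜 inf_le_right (s j)) :
    ∃ t : 𝒜.presheaf.obj (op V), ∀ i, res 𝒜 (hU i) t = s i :=
  Groth.Agent.Fdesc.LocGen.res_glue 𝒜.toModule U hU hc s h

theorem decompose_res {U V : X.Opens} (hU : IsAffineOpen U) (hV : IsAffineOpen V) (h : V ≤ U) (d : ℕ)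
    (x : 𝒜.presheaf.obj (op U)) :
    (DirectSum.decompose (𝒜.deg V hV) (res 𝒜 h x) d : 𝒜.presheaf.obj (op V)) =
      res 𝒜 h (DirectSum.decompose (𝒜.deg U hU) x d : 𝒜.presheaf.obj (op U)) :=
  ((𝒜.res hU hV h).map_directSumDecompose).symm

/-- Homogeneity is local. -/
theorem isHom_of_cover {ι : Type*} {W : X.Opens} (U : ι → X.Opens) (hU : ∀ i, U i ≤ W) (hc : W ≤ ⨆ i, U i)
    {t : 𝒜.presheaf.obj (op W)} {d : ℕ} (h : ∀ i, IsHom (res 𝒜 (hU i) t) d) : IsHom t d := by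
  intro V hV i
  have h1 : ∀ x : V, ∃ (j : ι) (V' : X.Opens) (_ : IsAffineOpen V'), x.1 ∈ V' ∧ V' ≤ V ∧ V' ≤ U j := by
    intro x
    obtain ⟨j, hj⟩ := Opens.mem_iSup.mp (hc (i x.2))
    obtain ⟨V', hV', hx, hle⟩ := exists_isAffineOpen_mem_and_subset (x := x.1) (U := V ⊓ U j) ⟨x.2, hj⟩
    exact ⟨j, V', hV', hx, hle.trans inf_le_left, hle.trans inf_le_right⟩
  choose j V' hV' hxV' hV'V hV'U using h1
  have h2 : res 𝒜 i t = (DirectSum.decompose (𝒜.deg V hV) (res 𝒜 i t) d : 𝒜.presheaf.obj (op V)) := by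
    refine ext_of_cover V' hV'V (fun x hx => Opens.mem_iSup.mpr ⟨⟨x, hx⟩, hxV' _⟩) fun x => ?_
    rw [← decompose_res hV (hV' x), res_res]
    refine (DirectSum.decompose_of_mem_same _ ?_).symm
    have h3 := h (j x) (V' x) (hV' x) (hV'U x)
    rwa [res_res] at h3
  rw [h2]
  exact SetLike.coe_mem _

theorem finite_line_cover (h : IsLineAlg 𝒜) {W : X.Opens} (hW : IsCompact (W : Set X)) :
    ∃ (ι : Type u) (_ : Finite ι) (V : ι → X.Opens) (hV : ∀ i, IsAffineOpen (V i))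
      (T : ∀ i, 𝒜.presheaf.obj (op (V i))), (∀ i, V i ≤ W) ∧ (∀ i, LineOn 𝒜 (V i) (hV i) (T i)) ∧ W ≤ ⨆ i, V i := by
  choose V hV T hxV hVW hT using fun x : W => exists_lineOn_le h x.2
  obtain ⟨t, ht⟩ := hW.elim_finite_subcover (fun x : W => (V x : Set X)) (fun x => (V x).2)
    (fun x hx => Set.mem_iUnion.2 ⟨⟨x, hx⟩, hxV ⟨x, hx⟩⟩)
  refine ⟨t, inferInstance, fun i => V i.1, fun i => hV _, fun i => T i.1, fun i => hVW _, fun i => hT _, ?_⟩
  intro x hx
  have := ht hx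
  simp only [Set.mem_iUnion, exists_prop] at this
  obtain ⟨i, hi, hxi⟩ := this
  exact Opens.mem_iSup.2 ⟨⟨i, hi⟩, hxi⟩

/-- A section vanishing where `s` does not vanish is killed by a power of `s`. -/
theorem exists_pow_mul_eq_zero (h : IsLineAlg 𝒜) {W : X.Opens} (hW : IsCompact (W : Set X))
    {s : 𝒜.presheaf.obj (op W)} {n : ℕ} (hs : IsHom s n) {z : 𝒜.presheaf.obj (op W)}
    (hz : res 𝒜 (nv_le s n) z = 0) : ∃ k : ℕ, s ^ k * z = 0 := by
  obtain ⟨ι, _, V, hV, T, hVW, hT, hc⟩ := finite_line_cover h hW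
  have h1 : ∀ i, ∃ k : ℕ, res 𝒜 (hVW i) (s ^ k * z) = 0 := by
    intro i
    obtain ⟨a, ha⟩ := (hT i).surj n _ (hs (V i) (hV i) (hVW i))
    have h2 : X.basicOpen a ≤ nv s n := by
      rw [← nv_inf_line (hT i) (hVW i) s n a ha]; exact inf_le_left
    have h3 : res 𝒜 (X.basicOpen_le a) (res 𝒜 (hVW i) z) = 0 := by
      rw [res_res, ← res_res 𝒜 (nv_le s n) h2, hz, map_zero]
    obtain ⟨k, hk⟩ := exists_mul_eq_zero (hV i) a _ h3
    refine ⟨k, ?_⟩
    rw [map_mul, map_pow, ha, mul_pow, mul_right_comm, hk, zero_mul]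
  choose k hk using h1
  cases nonempty_fintype ι
  refine ⟨Finset.univ.sup k, ext_of_cover V hVW hc fun i => ?_⟩
  have hle : k i ≤ Finset.univ.sup k := Finset.le_sup (Finset.mem_univ i)
  rw [← Nat.sub_add_cancel hle, pow_add, mul_assoc, map_mul, hk, mul_zero, map_zero]

/-- A homogeneous section over the open where `s` does not vanish extends, after multiplication by a power of `s`. -/
theorem exists_extend (h : IsLineAlg 𝒜) {W : X.Opens} (hW : IsCompact (W : Set X))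
    (hq : IsQuasiSeparated (W : Set X)) {s : 𝒜.presheaf.obj (op W)} {n : ℕ} (hs : IsHom s n)
    {y : 𝒜.presheaf.obj (op (nv s n))} {e : ℕ} (hy : IsHom y e) :
    ∃ (k : ℕ) (t : 𝒜.presheaf.obj (op W)), IsHom t (k * n + e) ∧
      res 𝒜 (nv_le s n) t = res 𝒜 (nv_le s n) s ^ k * y := by
  obtain ⟨ι, _, V, hV, T, hVW, hT, hc⟩ := finite_line_cover h hW
  cases nonempty_fintype ι
  have h1 : ∀ i, ∃ a : Γ(X, V i), res 𝒜 (hVW i) s = str 𝒜 (V i) a * T i ^ n := fun i =>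
    (hT i).surj n _ (hs (V i) (hV i) (hVW i))
  choose a ha using h1
  have hD : ∀ i, X.basicOpen (a i) ≤ nv s n := fun i => by
    rw [← nv_inf_line (hT i) (hVW i) s n (a i) (ha i)]; exact inf_le_left
  have h2 : ∀ i, ∃ (k : ℕ) (x : 𝒜.presheaf.obj (op (V i))), x ∈ 𝒜.deg (V i) (hV i) e ∧
      res 𝒜 (hD i) y * str 𝒜 _ (resO (X.basicOpen_le (a i)) (a i)) ^ k = res 𝒜 (X.basicOpen_le (a i)) x := fun i =>
    exists_deg_res_eq (hV i) (a i) (hy _ ((hV i).basicOpen (a i)) (hD i))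
  choose k x hxd hx using h2
  set K := Finset.univ.sup k with hK
  have hkK : ∀ i, k i ≤ K := fun i => Finset.le_sup (Finset.mem_univ i)
  -- the local extensions
  obtain ⟨w, hwe⟩ : ∃ w : ∀ i, 𝒜.presheaf.obj (op (V i)), ∀ i, w i = str 𝒜 (V i) (a i) ^ (K - k i) * x i * T i ^ (n * K) :=
    ⟨_, fun _ => rfl⟩
  have hw : ∀ i, res 𝒜 (X.basicOpen_le (a i)) (w i) =
      res 𝒜 (hD i) (res 𝒜 (nv_le s n) s) ^ K * res 𝒜 (hD i) y := by
    intro i
    have h3 : res 𝒜 (hD i) (res 𝒜 (nv_le s n) s) =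
        str 𝒜 _ (resO (X.basicOpen_le (a i)) (a i)) * res 𝒜 (X.basicOpen_le (a i)) (T i) ^ n := by
      rw [res_res, ← res_res 𝒜 (hVW i) (X.basicOpen_le (a i)), ha, map_mul, res_str, map_pow]
    have h4 : res 𝒜 (X.basicOpen_le (a i)) (w i) = str 𝒜 _ (resO (X.basicOpen_le (a i)) (a i)) ^ (K - k i) *
        res 𝒜 (X.basicOpen_le (a i)) (x i) * res 𝒜 (X.basicOpen_le (a i)) (T i) ^ (n * K) := by
      rw [hwe]
      simp only [map_mul, map_pow, res_str]
    rw [h4, h3, ← hx i, mul_pow, ← pow_mul]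
    have h5 : str 𝒜 _ (resO (X.basicOpen_le (a i)) (a i)) ^ K =
        str 𝒜 _ (resO (X.basicOpen_le (a i)) (a i)) ^ (K - k i) * str 𝒜 _ (resO (X.basicOpen_le (a i)) (a i)) ^ k i := by
      rw [← pow_add, Nat.sub_add_cancel (hkK i)]
    rw [h5]
    ring
  have hwd : ∀ i, w i ∈ 𝒜.deg (V i) (hV i) (e + n * K) := by
    intro i
    have h3 : str 𝒜 (V i) (a i) ^ (K - k i) ∈ 𝒜.deg (V i) (hV i) 0 := by
      rw [← map_pow]; exact str_mem (hV i) _
    have h4 := SetLike.mul_mem_graded (SetLike.mul_mem_graded h3 (hxd i))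
      (show T i ^ (n * K) ∈ 𝒜.deg (V i) (hV i) (n * K) by simpa using SetLike.pow_mem_graded (n * K) (hT i).deg_T)
    rw [zero_add, ← hwe] at h4
    exact h4
  -- agreement on overlaps
  have h3 : ∀ p : ι × ι, ∃ l : ℕ, (res 𝒜 (inf_le_left.trans (hVW p.1) : V p.1 ⊓ V p.2 ≤ W) s) ^ l *
      (res 𝒜 (inf_le_left : V p.1 ⊓ V p.2 ≤ V p.1) (w p.1) - res 𝒜 inf_le_right (w p.2)) = 0 := by
    rintro ⟨i, j⟩
    have hij : V i ⊓ V j ≤ W := inf_le_left.trans (hVW i)
    refine exists_pow_mul_eq_zero h (hq _ _ (hVW i) (V i).2 (hV i).isCompact (hVW j) (V j).2 (hV j).isCompact)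
      (hs.res hij) ?_
    have hnv : nv (res 𝒜 hij s) n = nv s n ⊓ (V i ⊓ V j) := nv_res h hij hs
    have hi : nv (res 𝒜 hij s) n ≤ X.basicOpen (a i) := by
      rw [hnv, ← nv_inf_line (hT i) (hVW i) s n (a i) (ha i)]
      exact inf_le_inf_left _ inf_le_left
    have hj : nv (res 𝒜 hij s) n ≤ X.basicOpen (a j) := by
      rw [hnv, ← nv_inf_line (hT j) (hVW j) s n (a j) (ha j)]
      exact inf_le_inf_left _ inf_le_right
    dsimp only
    rw [map_sub, res_res, res_res, ← res_res 𝒜 (X.basicOpen_le (a i)) hi, ← res_res 𝒜 (X.basicOpen_le (a j)) hj, hw, hw]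
    simp only [map_mul, map_pow, res_res]
    exact sub_self _
  choose l hl using h3
  set L := Finset.univ.sup l with hL
  have hlL : ∀ p, l p ≤ L := fun p => Finset.le_sup (Finset.mem_univ p)
  obtain ⟨t, ht⟩ := glue V hVW hc (fun i => res 𝒜 (hVW i) s ^ L * w i) (by
    intro i j
    rw [← sub_eq_zero, map_mul, map_mul, map_pow, map_pow, res_res, res_res, ← mul_sub]
    have h4 := hl (i, j)
    dsimp only at h4
    rw [← Nat.sub_add_cancel (hlL (i, j)), pow_add, mul_assoc, h4, mul_zero])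
  refine ⟨L + K, t, ?_, ?_⟩
  · refine isHom_of_cover V hVW hc fun i => ?_
    rw [ht i]
    intro V' hV' iV'
    rw [map_mul, map_pow, res_res]
    have h4 := SetLike.mul_mem_graded (SetLike.pow_mem_graded L (hs V' hV' (iV'.trans (hVW i))))
      (res_mem (hV i) hV' iV' (hwd i))
    have h5 : L • n + (e + n * K) = (L + K) * n + e := by simp only [smul_eq_mul]; ring
    rwa [h5] at h4
  · refine ext_of_cover (fun i => X.basicOpen (a i)) hD ?_ fun i => ?_
    · intro x hx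
      obtain ⟨i, hi⟩ := Opens.mem_iSup.mp (hc (nv_le s n hx))
      refine Opens.mem_iSup.mpr ⟨i, ?_⟩
      rw [← nv_inf_line (hT i) (hVW i) s n (a i) (ha i)]
      exact ⟨hx, hi⟩
    · rw [res_res, ← res_res 𝒜 (hVW i) (X.basicOpen_le (a i)), ht i, map_mul, hw i, map_mul, map_pow, map_pow, res_res,
        res_res, pow_add, mul_assoc]

end K387.LineExt
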