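import Groth.Agent.EGA2.K41.SymLine
import Groth.Agent.Ega2.Ample
import Groth.Agent.Ega2.TensPow
import Groth.Agent.Mor.K387.LineExt

/-!
# Tensor powers of an invertible module and its graded symmetric algebra

`𝒜` a quasi-coherent graded algebra, `j : L ⟶ 𝒜`.
* `powHom j n : L^{⊗ n} ⟶ 𝒜`, `powHom_pow : e^{⊗ n} ↦ (j e)^n`;
* for `L` invertible quasi-coherent and `(𝒜, j)` its graded symmetric algebra: `isHom_powHom`, `nv_powHom`,
  `powHom_injective`, `exists_powHom` (the homogeneous sections of degree `n` of `𝒜` are the sections of `L^{⊗ n}`).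
-/

set_option autoImplicit false
universe u
open CategoryTheory CategoryTheory.Limits AlgebraicGeometry TopologicalSpace Opposite
open scoped HomogeneousIdeal

noncomputable section

namespace K387.LinePow
open K41.LineAlg K41.LineRing K41.NV Groth.Agent.Fdesc.LocGen K387.LineExt

variable {X : Scheme.{u}} {L M : X.Modules} {𝒜 : RelProj.QCGrAlg X}

/-- The value of a morphism to `𝒜`, in the ring of sections. -/
def sv (φ : M ⟶ 𝒜.toModule) {U : X.Opens} (m : Γ(M, U)) : 𝒜.presheaf.obj (op U) := φ.app U m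

theorem sv_add (φ : M ⟶ 𝒜.toModule) {U : X.Opens} (m m' : Γ(M, U)) : sv φ (m + m') = sv φ m + sv φ m' :=
  map_add (φ.app U).hom m m'

theorem sv_smul (φ : M ⟶ 𝒜.toModule) {U : X.Opens} (r : Γ(X, U)) (m : Γ(M, U)) :
    sv φ (r • m) = str 𝒜 U r * sv φ m := Scheme.Modules.Hom.app_smul φ r m

theorem sv_res (φ : M ⟶ 𝒜.toModule) {U V : X.Opens} (h : V ≤ U) (m : Γ(M, U)) :
    sv φ (Groth.Agent.Fdesc.LocGen.res M h m) = K41.LineAlg.res 𝒜 h (sv φ m) := app_res φ h m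

variable (𝒜) in
/-- The structure map `O_X ⟶ 𝒜`. -/
def strHom : Coh.structureModule X ⟶ 𝒜.toModule :=
  mkHom (fun U => (show Γ(X, U) →+ Γ(𝒜.toModule, U) from (str 𝒜 U).toAddMonoidHom))
    (fun U a m => (map_mul (str 𝒜 U) a m))
    (fun U V h m => (res_str 𝒜 h m).symm)

theorem sv_strHom {U : X.Opens} (a : Γ(X, U)) : sv (strHom 𝒜) (ofFun a) = str 𝒜 U a := rfl

/-- The product of two morphisms to `𝒜`, as a pairing. -/
def mulBil (φ : M ⟶ 𝒜.toModule) (ψ : L ⟶ 𝒜.toModule) (U : X.Opens) :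
    Γ(M, U) →ₗ[Γ(X, U)] Γ(L, U) →ₗ[Γ(X, U)] Γ(𝒜.toModule, U) :=
  LinearMap.mk₂ _ (fun m l => (show Γ(𝒜.toModule, U) from sv φ m * sv ψ l))
    (fun m m' l => by
      change sv φ (m + m') * sv ψ l = sv φ m * sv ψ l + sv φ m' * sv ψ l
      rw [sv_add, add_mul])
    (fun r m l => by
      change sv φ (r • m) * sv ψ l = str 𝒜 U r * (sv φ m * sv ψ l)
      rw [sv_smul, mul_assoc])
    (fun m l l' => by
      change sv φ m * sv ψ (l + l') = sv φ m * sv ψ l + sv φ m * sv ψ l'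
      rw [sv_add, mul_add])
    (fun r m l => by
      change sv φ m * sv ψ (r • l) = str 𝒜 U r * (sv φ m * sv ψ l)
      rw [sv_smul, mul_left_comm])

/-- The product of two morphisms to `𝒜`, as a morphism on the tensor product. -/
def mulHom (φ : M ⟶ 𝒜.toModule) (ψ : L ⟶ 𝒜.toModule) : CohB1.tensorMod M L ⟶ 𝒜.toModule :=
  Groth.Agent.Ega2.Tens.lift (mulBil φ ψ) (fun U V i m l => by
    change K41.LineAlg.res 𝒜 i.le (sv φ m * sv ψ l) = sv φ (Groth.Agent.Fdesc.LocGen.res M i.le m) *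
      sv ψ (Groth.Agent.Fdesc.LocGen.res L i.le l)
    rw [map_mul, sv_res, sv_res])

theorem sv_mulHom (φ : M ⟶ 𝒜.toModule) (ψ : L ⟶ 𝒜.toModule) {U : X.Opens} (m : Γ(M, U)) (l : Γ(L, U)) :
    sv (mulHom φ ψ) (tmul m l) = sv φ m * sv ψ l := Groth.Agent.Ega2.Tens.lift_tmul _ _ _ _ _

/-- `L^{⊗ n} ⟶ 𝒜`, `l₁ ⊗ ⋯ ⊗ lₙ ↦ j l₁ ⋯ j lₙ`. -/
def powHom (j : L ⟶ 𝒜.toModule) : (n : ℕ) → (CohB1.tensorPow L n ⟶ 𝒜.toModule)
  | 0 => strHom 𝒜
  | n + 1 => mulHom (powHom j n) j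

theorem powHom_pow (j : L ⟶ 𝒜.toModule) {U : X.Opens} (e : Γ(L, U)) (n : ℕ) :
    sv (powHom j n) (pow e n) = sv j e ^ n := by
  induction n with
  | zero =>
    refine (sv_strHom (𝒜 := 𝒜) (1 : Γ(X, U))).trans ?_
    rw [map_one, pow_zero]
  | succ n ih =>
    refine (sv_mulHom (powHom j n) j (pow e n) e).trans ?_
    rw [ih, pow_succ]

theorem powHom_smul_pow (j : L ⟶ 𝒜.toModule) {U : X.Opens} (a : Γ(X, U)) (e : Γ(L, U)) (n : ℕ) :
    sv (powHom j n) (a • pow e n) = str 𝒜 U a * sv j e ^ n := by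
  rw [sv_smul, powHom_pow]

section sym

variable {j : L ⟶ 𝒜.toModule} (hL : PicF.IsInvertible L) (hLq : Coh.IsQCoh L) (hj : RelProj.IsGrSymAlg L 𝒜 j)

include hL in
theorem locGen : ∀ W : X.Opens, Groth.Agent.Ega2.Nv.LocGen L W := by
  intro W x hx
  obtain ⟨U, e, hxU, he⟩ := (isInvertible_iff L).mp hL x
  exact ⟨U ⊓ W, Groth.Agent.Fdesc.LocGen.res L inf_le_left e, ⟨hxU, hx⟩, inf_le_right, he.res _⟩

include hL in
/-- Affine opens with a generator of `L` inside a given open. -/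
theorem exists_gen_le {W : X.Opens} {x : X} (hx : x ∈ W) :
    ∃ (V : X.Opens) (_ : IsAffineOpen V) (e : Γ(L, V)), x ∈ V ∧ V ≤ W ∧ IsGen e := by
  obtain ⟨U, e, hxU, hUW, he⟩ := locGen hL W x hx
  obtain ⟨V, hV, hxV, hVU⟩ := exists_isAffineOpen_mem_and_subset hxU
  exact ⟨V, hV, Groth.Agent.Fdesc.LocGen.res L hVU e, hxV, hVU.trans hUW, he.res _⟩

include hL hLq hj in
theorem isHom_powHom {W : X.Opens} {n : ℕ} (s : Γ(CohB1.tensorPow L n, W)) : IsHom (sv (powHom j n) s) n := by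
  choose V hV e hxV hVW he using fun x : W => exists_gen_le hL x.2
  refine isHom_of_cover V hVW (fun x hx => Opens.mem_iSup.mpr ⟨⟨x, hx⟩, hxV _⟩) fun x => ?_
  obtain ⟨a, ha⟩ := ((he x).pow n).exists_eq (Groth.Agent.Fdesc.LocGen.res _ (hVW x) s)
  rw [← sv_res, ha, powHom_smul_pow]
  intro V' hV' i
  exact res_mem (hV x) hV' i ((K41.SymLine.lineOn hLq hj (V x) (hV x) (e x) (he x)).mem n a)

include hL hLq hj in
/-- The nonvanishing locus of a section of `L^{⊗ n}`, read in the symmetric algebra. -/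
theorem nv_powHom {W : X.Opens} {n : ℕ} (s : Γ(CohB1.tensorPow L n, W)) :
    K41.NV.nv (sv (powHom j n) s) n = Groth.Agent.Ega2.Nv.nv _ s := by
  ext x
  by_cases hx : x ∈ W
  · obtain ⟨V, hV, e, hxV, hVW, he⟩ := exists_gen_le hL hx
    obtain ⟨a, ha⟩ := (he.pow n).exists_eq (Groth.Agent.Fdesc.LocGen.res _ hVW s)
    have h1 : K41.LineAlg.res 𝒜 hVW (sv (powHom j n) s) = str 𝒜 V a * sv j e ^ n := by
      rw [← sv_res, ha, powHom_smul_pow]
    have h2 := nv_inf_line (K41.SymLine.lineOn hLq hj V hV e he) hVW _ n a h1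
    have h3 := Groth.Agent.Ega2.Nv.nv_inf_of_eq_smul s hVW (he.pow n) a ha
    constructor
    · intro h
      have h4 : x ∈ K41.NV.nv (sv (powHom j n) s) n ⊓ V := ⟨h, hxV⟩
      rw [h2, ← h3] at h4
      exact h4.2
    · intro h
      have h4 : x ∈ V ⊓ Groth.Agent.Ega2.Nv.nv _ s := ⟨hxV, h⟩
      rw [h3, ← h2] at h4
      exact h4.1
  · exact ⟨fun h => absurd (K41.NV.nv_le _ _ h) hx, fun h => absurd (Groth.Agent.Ega2.Nv.nv_le _ _ h) hx⟩

include hL hLq hj in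
theorem powHom_injective {W : X.Opens} (n : ℕ) :
    Function.Injective (fun s : Γ(CohB1.tensorPow L n, W) => sv (powHom j n) s) := by
  intro s t hst
  choose V hV e hxV hVW he using fun x : W => exists_gen_le hL x.2
  refine res_ext _ V hVW (fun x hx => Opens.mem_iSup.mpr ⟨⟨x, hx⟩, hxV _⟩) fun x => ?_
  obtain ⟨a, ha⟩ := ((he x).pow n).exists_eq (Groth.Agent.Fdesc.LocGen.res _ (hVW x) s)
  obtain ⟨b, hb⟩ := ((he x).pow n).exists_eq (Groth.Agent.Fdesc.LocGen.res _ (hVW x) t)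
  have h1 : str 𝒜 _ a * sv j (e x) ^ n = str 𝒜 _ b * sv j (e x) ^ n := by
    rw [← powHom_smul_pow, ← powHom_smul_pow, ← ha, ← hb, sv_res, sv_res]
    exact congrArg _ hst
  rw [ha, hb, (K41.SymLine.lineOn hLq hj (V x) (hV x) (e x) (he x)).ext h1]

include hL hLq hj in
/-- Every homogeneous section of degree `n` is a section of `L^{⊗ n}`. -/
theorem exists_powHom {W : X.Opens} {n : ℕ} {t : 𝒜.presheaf.obj (op W)} (ht : IsHom t n) :
    ∃ s : Γ(CohB1.tensorPow L n, W), sv (powHom j n) s = t := by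
  choose V hV e hxV hVW he using fun x : W => exists_gen_le hL x.2
  have h1 : ∀ x : W, ∃ a : Γ(X, V x), K41.LineAlg.res 𝒜 (hVW x) t = str 𝒜 (V x) a * sv j (e x) ^ n := fun x =>
    (K41.SymLine.lineOn hLq hj (V x) (hV x) (e x) (he x)).surj n _ (ht (V x) (hV x) (hVW x))
  choose a ha using h1
  have hc : W ≤ ⨆ x : W, V x := fun x hx => Opens.mem_iSup.mpr ⟨⟨x, hx⟩, hxV _⟩
  obtain ⟨s, hs⟩ := res_glue (CohB1.tensorPow L n) V hVW hc (fun x => a x • pow (e x) n) (by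
    intro x y
    apply powHom_injective hL hLq hj n
    dsimp only
    rw [sv_res, sv_res, powHom_smul_pow, powHom_smul_pow, ← ha, ← ha, K41.LineAlg.res_res, K41.LineAlg.res_res])
  refine ⟨s, ext_of_cover V hVW hc fun x => ?_⟩
  rw [← sv_res, hs, powHom_smul_pow, ha]

end sym

end K387.LinePow
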