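import Groth.Agent.EGA2.K41.RKappa2
import Groth.Agent.Mor.K387.LinePow
import Groth.Agent.Ega2.CocycleIso

/-!
# Division by nonvanishing sections in a line algebra

`exists_div`: `t / s` for `s` nonvanishing of degree `d` and `t` of degree `d + n`; `mul_cancel`; `exists_pow_div`: the same
as a section of `L^{⊗ n}`, with `IsGen` where `t` does not vanish. `iso_of_local`: modules with local generators which
have locally the same coefficients are isomorphic.
-/

set_option autoImplicit false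
set_option linter.unusedSectionVars false
universe u
open CategoryTheory CategoryTheory.Limits AlgebraicGeometry TopologicalSpace Opposite
open scoped HomogeneousIdeal

noncomputable section

namespace K387.LineDiv
open K41.LineAlg K41.LineRing K41.NV K41.RKappa K41.RKappa2 K387.LineExt K387.LinePow Groth.Agent.Fdesc.LocGen

variable {X : Scheme.{u}} {ℬ : RelProj.QCGrAlg X}

/-- Cancellation of a nonvanishing section. -/
theorem mul_cancel (hB : IsLineAlg ℬ) {W W' : X.Opens} (i : W ≤ W') {s : ℬ.presheaf.obj (op W')} {d : ℕ}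
    (hs : IsHom s d) (hW : W ≤ nv s d) {y y' : ℬ.presheaf.obj (op W)}
    (h : y * K41.LineAlg.res ℬ i s = y' * K41.LineAlg.res ℬ i s) : y = y' := by
  refine ext_line hB fun V hV T hT j => ?_
  rw [← sub_eq_zero]
  refine regular_of_line hT (j.trans i) hs (j.trans hW) _ 1 ?_
  have h1 := congrArg (K41.LineAlg.res ℬ j) h
  rw [map_mul, map_mul, K41.LineAlg.res_res] at h1
  rw [pow_one, sub_mul, sub_eq_zero, h1]

theorem exists_div (hB : IsLineAlg ℬ) {W W' : X.Opens} (i : W ≤ W') {s t : ℬ.presheaf.obj (op W')} {d n : ℕ}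
    (hs : IsHom s d) (ht : IsHom t (d + n)) (hW : W ≤ nv s d) :
    ∃ y : ℬ.presheaf.obj (op W), IsHom y n ∧ y * K41.LineAlg.res ℬ i s = K41.LineAlg.res ℬ i t := by
  have h0 : ∀ x : W, ∃ (V : X.Opens) (_ : x.1 ∈ V) (j : V ≤ W) (y : ℬ.presheaf.obj (op V)), IsHom y n ∧
      y * K41.LineAlg.res ℬ (j.trans i) s = K41.LineAlg.res ℬ (j.trans i) t := by
    intro x
    obtain ⟨V, hV, T, hxV, hVW, hT⟩ := exists_lineOn_le hB x.2
    obtain ⟨a, ha⟩ := hT.surj d _ (hs V hV (hVW.trans i))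
    obtain ⟨b, hb⟩ := hT.surj (d + n) _ (ht V hV (hVW.trans i))
    have h1 := nv_inf_line hT (hVW.trans i) s d a ha
    rw [inf_eq_right.mpr (hVW.trans hW)] at h1
    have hu : IsUnit a := by
      have h2 := isUnit_resO V a
      have h3 : ∀ (W : X.Opens) (e : W = V) (i : W ≤ V), IsUnit (resO i a) → IsUnit a := by
        rintro W rfl i hi
        rwa [resO_self] at hi
      exact h3 _ h1.symm (X.basicOpen_le a) h2
    obtain ⟨a', ha'⟩ := hu.exists_right_inv
    refine ⟨V, hxV, hVW, str ℬ V (b * a') * T ^ n, ?_, ?_⟩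
    · intro V' hV' j
      exact res_mem hV hV' j (hT.mem n (b * a'))
    · rw [ha, hb, map_mul]
      have h4 : str ℬ V a * str ℬ V a' = 1 := by rw [← map_mul, ha', map_one]
      calc str ℬ V b * str ℬ V a' * T ^ n * (str ℬ V a * T ^ d)
          = str ℬ V b * (str ℬ V a * str ℬ V a') * T ^ (d + n) := by rw [pow_add]; ring
        _ = str ℬ V b * T ^ (d + n) := by rw [h4, mul_one]
  choose V hxV hVW y hy hyt using h0
  have hc : W ≤ ⨆ x, V x := fun x hx => Opens.mem_iSup.mpr ⟨⟨x, hx⟩, hxV _⟩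
  obtain ⟨z, hz⟩ := glue V hVW hc y (fun x x' => by
    refine mul_cancel hB ((inf_le_left.trans (hVW x)).trans i) hs (inf_le_left.trans ((hVW x).trans hW)) ?_
    have h1 := congrArg (K41.LineAlg.res ℬ (inf_le_left : V x ⊓ V x' ≤ V x)) (hyt x)
    have h2 := congrArg (K41.LineAlg.res ℬ (inf_le_right : V x ⊓ V x' ≤ V x')) (hyt x')
    rw [map_mul, K41.LineAlg.res_res, K41.LineAlg.res_res] at h1 h2
    rw [h1, h2])
  refine ⟨z, isHom_of_cover V hVW hc fun x => by rw [hz]; exact hy x, ?_⟩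
  refine ext_of_cover V hVW hc fun x => ?_
  rw [map_mul, K41.LineAlg.res_res, K41.LineAlg.res_res, hz, hyt]

variable {L : X.Modules} {j : L ⟶ ℬ.toModule} (hL : PicF.IsInvertible L) (hLq : Coh.IsQCoh L)
  (hj : RelProj.IsGrSymAlg L ℬ j)

include hL hLq hj in
theorem exists_pow_div {W W' : X.Opens} (i : W ≤ W') {s t : ℬ.presheaf.obj (op W')} {d n : ℕ}
    (hs : IsHom s d) (ht : IsHom t (d + n)) (hW : W ≤ nv s d) (hW' : W ≤ nv t (d + n)) :
    ∃ f : Γ(CohB1.tensorPow L n, W), IsGen f ∧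
      sv (powHom j n) f * K41.LineAlg.res ℬ i s = K41.LineAlg.res ℬ i t := by
  have hB := K41.SymLine.isLineAlg hL hLq hj
  obtain ⟨y, hy, hyt⟩ := exists_div hB i hs ht hW
  obtain ⟨f, rfl⟩ := exists_powHom hL hLq hj hy
  refine ⟨f, ?_, hyt⟩
  have h1 : W ≤ Groth.Agent.Ega2.Nv.nv _ f := by
    rw [← nv_powHom hL hLq hj]
    have h2 := nv_mul hB hy (hs.res i)
    rw [hyt, add_comm n d, nv_res hB i ht, inf_eq_right.mpr hW'] at h2
    exact h2.le.trans inf_le_left
  rw [Groth.Agent.Ega2.Nv.le_nv_iff _ _ le_rfl, res_refl] at h1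
  exact h1

/-- Modules with local generators which have locally the same coefficients are isomorphic. -/
theorem iso_of_local {M N : X.Modules} {ι : Type*} {U : ι → X.Opens} {m : ∀ i, Γ(M, U i)} {n : ∀ i, Γ(N, U i)}
    (hcov : ∀ x : X, ∃ i, x ∈ U i) (hm : ∀ i, IsGen (m i)) (hn : ∀ i, IsGen (n i))
    (h : ∀ i j, ∀ x ∈ U i ⊓ U j, ∃ (W : X.Opens) (_ : x ∈ W) (hi : W ≤ U i) (hj : W ≤ U j) (c : Γ(X, W)),
      Groth.Agent.Fdesc.LocGen.res M hi (m i) = c • Groth.Agent.Fdesc.LocGen.res M hj (m j) ∧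
      Groth.Agent.Fdesc.LocGen.res N hi (n i) = c • Groth.Agent.Fdesc.LocGen.res N hj (n j)) : Nonempty (M ≅ N) := by
  have hc : Groth.Agent.Ega2.CocycleIso.Compat U m n := by
    intro i j W₀ hi hj g hg
    choose W hxW hWi hWj c hcm hcn using fun x : W₀ => h i j x.1 ⟨hi x.2, hj x.2⟩
    refine res_ext N (fun x : W₀ => W₀ ⊓ W x) (fun x => inf_le_left)
      (fun x hx => Opens.mem_iSup.mpr ⟨⟨x, hx⟩, hx, hxW ⟨x, hx⟩⟩) fun x => ?_
    have h1 := congrArg (Groth.Agent.Fdesc.LocGen.res M (inf_le_left : W₀ ⊓ W x ≤ W₀)) hg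
    have h2 := congrArg (Groth.Agent.Fdesc.LocGen.res M (inf_le_right : W₀ ⊓ W x ≤ W x)) (hcm x)
    have h3 := congrArg (Groth.Agent.Fdesc.LocGen.res N (inf_le_right : W₀ ⊓ W x ≤ W x)) (hcn x)
    simp only [Groth.Agent.Fdesc.LocGen.res_res, res_smul] at h1 h2 h3 ⊢
    have h4 : ores (inf_le_left : W₀ ⊓ W x ≤ W₀) g = ores (inf_le_right : W₀ ⊓ W x ≤ W x) (c x) := by
      apply ((hm j).res ((inf_le_left : W₀ ⊓ W x ≤ W₀).trans hj)).ext
      rw [← h1, h2]
    rw [h3, h4]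
  obtain ⟨φ, -⟩ := Groth.Agent.Ega2.CocycleIso.exists_iso hcov hm hn hc
  exact ⟨φ⟩

end K387.LineDiv
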