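import Groth.Agent.Mor.K387.MonoSpec
import Groth.Agent.Ega43.DvrScheme
import Groth.Agent.Sga3B.QCClosure
import Groth.Agent.FlatA.ZMTFactor
import Mathlib.AlgebraicGeometry.Noetherian
import Mathlib.AlgebraicGeometry.ZariskisMainTheorem

/-!
# Quasi-compact monomorphisms of finite type with the discrete valuative lifting property are immersions
-/

set_option autoImplicit false
universe u

open CategoryTheory CategoryTheory.Limits AlgebraicGeometry TopologicalSpace

namespace K387.MonoImm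

/-- The discrete valuative lifting property relative to squares whose closed point lifts. -/
def DvrLift {X Y : Scheme.{u}} (f : Y ⟶ X) : Prop :=
  ∀ S : ValuativeCommSq f, IsDiscreteValuationRing S.R →
    (∃ l₀ : Spec (CommRingCat.of (IsLocalRing.ResidueField S.R)) ⟶ Y,
      l₀ ≫ f = Spec.map (CommRingCat.ofHom (IsLocalRing.residue S.R)) ≫ S.i₂) →
      S.commSq.HasLift

theorem DvrLift.restrict {X Y : Scheme.{u}} {f : Y ⟶ X} (h : DvrLift f) (V : X.Opens) :
    DvrLift (f ∣_ V) := by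
  rintro S hS ⟨l₀, hl₀⟩
  have sq : CommSq (S.i₁ ≫ (f ⁻¹ᵁ V).ι) (Spec.map (CommRingCat.ofHom (algebraMap S.R S.K))) f
      (S.i₂ ≫ V.ι) := by
    refine ⟨?_⟩
    rw [Category.assoc, ← morphismRestrict_ι, ← Category.assoc, S.commSq.w, Category.assoc]
  obtain ⟨l, hl1, hl2⟩ := (h { R := S.R, K := S.K, i₁ := S.i₁ ≫ (f ⁻¹ᵁ V).ι, i₂ := S.i₂ ≫ V.ι,
                               commSq := sq } hS ⟨l₀ ≫ (f ⁻¹ᵁ V).ι, by
    rw [Category.assoc, ← morphismRestrict_ι, ← Category.assoc, hl₀, Category.assoc]⟩).exists_lift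
  have hpb := isPullback_morphismRestrict f V
  refine ⟨⟨⟨hpb.lift S.i₂ l hl2.symm, ?_, hpb.lift_fst _ _ _⟩⟩⟩
  rw [← cancel_mono (f ⁻¹ᵁ V).ι, Category.assoc, hpb.lift_snd]
  exact hl1

/-- The key disjointness. -/
theorem mem_range_of_dvrLift {X Y T : Scheme.{u}} [IsLocallyNoetherian T] (j : Y ⟶ T)
    [IsOpenImmersion j] [QuasiCompact j] [IsDominant j] (π : T ⟶ X) [IsSeparated π]
    [Mono (j ≫ π)] (h : DvrLift (j ≫ π)) (z : T) (y₀ : Y) (hz : π z = (j ≫ π) y₀) :
    z ∈ Set.range j := by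
  by_contra hzj
  have hcl : z ∈ closure (Set.range j) := by
    rw [j.denseRange.closure_range]
    trivial
  obtain ⟨y₁, hy₁⟩ := Groth.Agent.Sga3B.QCClosure.exists_specializes_of_mem_closure_range j z hcl
  have hne : j y₁ ≠ z := fun h1 ↦ hzj ⟨y₁, h1⟩
  have hN' : IsNoetherianRing (T.presheaf.stalk z) := inferInstance
  obtain ⟨R, i1, i2, i3, i4, i5, t, ht1, ht2⟩ :=
    Groth.Agent.Ega43.DvrScheme.exists_dvr_of_specializes hy₁ hne
      (T.residueField (j y₁)) (𝟙 _)
      (RingHom.FiniteType.essFiniteType (RingHom.FiniteType.of_surjective _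
        (fun a ↦ ⟨a, rfl⟩)))
  rw [Spec.map_id] at ht2
  replace ht2 := ht2.trans (Category.id_comp _)
  let K : Type u := T.residueField (j y₁)
  obtain ⟨i₁, hi₁⟩ := MonoSpec.exists_lift_field j (K := K)
    (Spec.map (CommRingCat.ofHom (algebraMap R K)) ≫ t) y₁ (by
      have h1 := Scheme.fromSpecResidueField_apply (X := T) (j y₁)
        (IsLocalRing.closedPoint (T.residueField (j y₁)))
      rw [← ht2] at h1
      exact h1)
  have sq : CommSq i₁ (Spec.map (CommRingCat.ofHom (algebraMap R K))) (j ≫ π) (t ≫ π) := by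
    refine ⟨?_⟩
    rw [← Category.assoc, hi₁, Category.assoc]
  obtain ⟨l₀, hl₀⟩ := MonoSpec.exists_lift_field (j ≫ π)
    (Spec.map (CommRingCat.ofHom (IsLocalRing.residue R)) ≫ t ≫ π) y₀ (by
      rw [← hz, ← ht1]
      exact congrArg (t ≫ π) (Points.specMap_residue_closedPoint (R := R)))
  obtain ⟨l, hl1, hl2⟩ := (h { R := R, K := K, i₁ := i₁, i₂ := t ≫ π, commSq := sq } i3
    ⟨l₀, hl₀⟩).exists_lift
  have hdom := Points.isDominant_specMap_fractionRing (A := R) K
  have heq : l ≫ j = t := by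
    refine ext_of_isDominant_of_isSeparated π (by rw [Category.assoc]; exact hl2)
      (Spec.map (CommRingCat.ofHom (algebraMap R K))) ?_
    rw [← hi₁, ← Category.assoc]
    exact congrArg (· ≫ j) hl1
  apply hzj
  rw [← ht1, ← heq]
  exact ⟨_, (Scheme.Hom.comp_apply _ _ _).symm⟩

/-- Affine Noetherian target. -/
theorem isImmersion_of_isAffine {X Y : Scheme.{u}} [IsAffine X] [IsLocallyNoetherian X] (f : Y ⟶ X)
    [Mono f] [QuasiCompact f] [LocallyOfFiniteType f] (h : DvrLift f) : IsImmersion f := by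
  have hlqf : LocallyQuasiFinite f := inferInstance
  obtain ⟨T, j, π, hT, hj, hjd, hπ, rfl⟩ := Groth.Agent.FlatA.ZMTFactor.exists_factor_of_isAffine f
  have hNT : IsLocallyNoetherian T := LocallyOfFiniteType.isLocallyNoetherian π
  have hjqc : QuasiCompact j := QuasiCompact.of_comp j π
  have hZ : IsClosed (Set.range j)ᶜ := j.isOpenEmbedding.isOpen_range.isClosed_compl
  let U : X.Opens := ⟨(π '' (Set.range j)ᶜ)ᶜ, (π.isClosedMap _ hZ).isOpen_compl⟩
  have hU : ∀ t : T, π t ∈ U ↔ t ∈ Set.range j := by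
    intro t
    constructor
    · intro h1
      by_contra h2
      exact h1 ⟨t, h2, rfl⟩
    · rintro ⟨y, rfl⟩ ⟨z, hz, hz2⟩
      exact hz (mem_range_of_dvrLift j π h z y (by rw [hz2]; rfl))
  let j' : Y ⟶ (π ⁻¹ᵁ U : Scheme.{u}) := IsOpenImmersion.lift (π ⁻¹ᵁ U).ι j (by
    rw [Scheme.Opens.range_ι]
    intro t ht
    exact (hU t).2 ht)
  have hj' : j' ≫ (π ⁻¹ᵁ U).ι = j := IsOpenImmersion.lift_fac _ _ _
  have hj'o : IsOpenImmersion j' := by
    have h1 : IsOpenImmersion (j' ≫ (π ⁻¹ᵁ U).ι) := by rw [hj']; exact hj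
    exact IsOpenImmersion.of_comp j' (π ⁻¹ᵁ U).ι
  have hj's : Surjective j' := by
    refine ⟨fun t ↦ ?_⟩
    obtain ⟨y, hy⟩ := (hU ((π ⁻¹ᵁ U).ι t)).1 t.2
    refine ⟨y, ?_⟩
    apply (π ⁻¹ᵁ U).ι.isOpenEmbedding.injective
    rw [← Scheme.Hom.comp_apply, hj', hy]
  have hj'i : IsIso j' := (isIso_iff_isOpenImmersion_and_surjective j').2 ⟨hj'o, hj's⟩
  have hf : (j' ≫ (π ∣_ U)) ≫ U.ι = j ≫ π := by
    rw [Category.assoc, morphismRestrict_ι, ← Category.assoc, hj']
  have hm : Mono (j' ≫ (π ∣_ U)) := by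
    have h1 : Mono ((j' ≫ (π ∣_ U)) ≫ U.ι) := by rw [hf]; infer_instance
    exact mono_of_mono _ U.ι
  have hfin : IsFinite (π ∣_ U) := inferInstance
  have hfin' : IsFinite (j' ≫ (π ∣_ U)) := inferInstance
  have hci : IsClosedImmersion (j' ≫ (π ∣_ U)) := by
    rw [IsClosedImmersion.iff_isProper_and_mono]
    exact ⟨inferInstance, hm⟩
  rw [← hf]
  infer_instance

/-- **Immersion criterion.** -/
theorem isImmersion {X Y : Scheme.{u}} [IsLocallyNoetherian X] (f : Y ⟶ X)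
    [Mono f] [QuasiCompact f] [LocallyOfFiniteType f] (h : DvrLift f) : IsImmersion f := by
  rw [IsZariskiLocalAtTarget.iff_of_iSup_eq_top (P := @IsImmersion) _ (iSup_affineOpens_eq_top X)]
  intro V
  have hV : IsAffine (V.1 : Scheme.{u}) := V.2
  have h1 : Mono (f ∣_ V.1) := by
    have h0 : Mono (f ∣_ V.1 ≫ V.1.ι) := by
      rw [morphismRestrict_ι]
      infer_instance
    exact mono_of_mono _ V.1.ι
  exact isImmersion_of_isAffine _ (h.restrict V.1)

end K387.MonoImm
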