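import Groth.Agent.Mor.K387.MonoSpec
import Mathlib.AlgebraicGeometry.Noetherian
import Mathlib.AlgebraicGeometry.Morphisms.QuasiCompact

/-!
# Quasi-compactness of monomorphisms from lifting over dense subsets of domains
-/

set_option autoImplicit false
universe u

open CategoryTheory CategoryTheory.Limits AlgebraicGeometry TopologicalSpace

namespace K387.MonoQC

/-- The lifting property: a morphism from the spectrum of a domain whose points over a dense subset lift
to `Y` lifts on a nonempty open. -/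
def DenseLift {X Y : Scheme.{u}} (f : Y ⟶ X) : Prop :=
  ∀ (A : Type u) [CommRing A] [IsDomain A] (s : Spec (CommRingCat.of A) ⟶ X)
    (D : Set ↥(Spec (CommRingCat.of A))), Dense D →
    (∀ p ∈ D, ∃ l : Spec ((Spec (CommRingCat.of A)).residueField p) ⟶ Y,
      l ≫ f = (Spec (CommRingCat.of A)).fromSpecResidueField p ≫ s) →
    ∃ U : (Spec (CommRingCat.of A)).Opens, (U : Set ↥(Spec (CommRingCat.of A))).Nonempty ∧
      ∃ l : (U : Scheme.{u}) ⟶ Y, l ≫ f = U.ι ≫ s

theorem DenseLift.restrict {X Y : Scheme.{u}} {f : Y ⟶ X} (h : DenseLift f) (V : X.Opens) :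
    DenseLift (f ∣_ V) := by
  intro A _ _ s D hD hl
  obtain ⟨U, hU, l, hlf⟩ := h A (s ≫ V.ι) D hD (fun p hp ↦ by
    obtain ⟨l, hl⟩ := hl p hp
    exact ⟨l ≫ (f ⁻¹ᵁ V).ι, by rw [Category.assoc, ← morphismRestrict_ι, reassoc_of% hl]⟩)
  have hpb := isPullback_morphismRestrict f V
  refine ⟨U, hU, hpb.lift (U.ι ≫ s) l (by rw [Category.assoc, hlf]), ?_⟩
  exact hpb.lift_fst _ _ _

/-- An irreducible closed subset of an affine scheme is the image of a closed immersion from the spectrum
of a domain. -/
theorem exists_domain {R : Type u} [CommRing R] [IsNoetherianRing R]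
    (T : Closeds ↥(Spec (CommRingCat.of R))) (hT : IsIrreducible (T : Set ↥(Spec (CommRingCat.of R)))) :
    ∃ (A : Type u) (_ : CommRing A) (_ : IsDomain A) (_ : IsNoetherianRing A)
      (s : Spec (CommRingCat.of A) ⟶ Spec (CommRingCat.of R)),
      Set.range s = T ∧ Topology.IsClosedEmbedding s := by
  let T' : Set (PrimeSpectrum R) := (T : Set ↥(Spec (CommRingCat.of R)))
  let I : Ideal R := PrimeSpectrum.vanishingIdeal T'
  have hI : I.IsPrime := PrimeSpectrum.isIrreducible_iff_vanishingIdeal_isPrime.1 hT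
  have hcl : IsClosedImmersion (Spec.map (CommRingCat.ofHom (Ideal.Quotient.mk I))) :=
    IsClosedImmersion.spec_of_quotient_mk (R := CommRingCat.of R) I
  refine ⟨R ⧸ I, inferInstance, inferInstance, inferInstance,
    Spec.map (CommRingCat.ofHom (Ideal.Quotient.mk I)), ?_, ?_⟩
  · have h1 := range_comap_of_surjective _ (Ideal.Quotient.mk I)
      Ideal.Quotient.mk_surjective
    have h2 : PrimeSpectrum.zeroLocus (RingHom.ker (Ideal.Quotient.mk I) : Set R) = T' := by
      rw [Ideal.mk_ker]
      exact (PrimeSpectrum.zeroLocus_vanishingIdeal_eq_closure _).trans T.2.closure_eq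
    exact h1.trans h2
  · exact (Spec.map (CommRingCat.ofHom (Ideal.Quotient.mk I))).isClosedEmbedding

/-- The irreducible step. -/
theorem isCompact_of_irreducible {R : Type u} [CommRing R] [IsNoetherianRing R] {Y : Scheme.{u}}
    (f : Y ⟶ Spec (CommRingCat.of R)) [Mono f] (h : DenseLift f)
    (T : Closeds ↥(Spec (CommRingCat.of R)))
    (hT : IsIrreducible (T : Set ↥(Spec (CommRingCat.of R))))
    (ih : ∀ T' < T, IsCompact (f ⁻¹' (T' : Set ↥(Spec (CommRingCat.of R))))) :
    IsCompact (f ⁻¹' (T : Set ↥(Spec (CommRingCat.of R)))) := by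
  let X := Spec (CommRingCat.of R)
  let D₀ : Set X := T ∩ Set.range f
  by_cases hD : closure D₀ = (T : Set X)
  · obtain ⟨A, i1, i2, i3, s, hs, hse⟩ := exists_domain T hT
    let D : Set ↥(Spec (CommRingCat.of A)) := s ⁻¹' Set.range f
    have hDd : Dense D := by
      rw [dense_iff_closure_eq, hse.isInducing.closure_eq_preimage_closure_image,
        Set.image_preimage_eq_inter_range, hs, Set.inter_comm]
      change s ⁻¹' closure D₀ = _
      rw [hD, ← hs, Set.preimage_range]
    obtain ⟨U, hU, l, hl⟩ := h A s D hDd (fun p hp ↦ by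
      obtain ⟨y, hy⟩ := hp
      exact MonoSpec.exists_lift_field f ((Spec (CommRingCat.of A)).fromSpecResidueField p ≫ s) y (by
        rw [hy]
        exact (Scheme.Hom.comp_apply _ _ _).trans
          (congrArg s (Scheme.fromSpecResidueField_apply _ _))))
    have hT' : IsClosed (s '' (U : Set ↥(Spec (CommRingCat.of A)))ᶜ) :=
      hse.isClosedMap _ U.2.isClosed_compl
    let T' : Closeds X := ⟨_, hT'⟩
    have hlt : T' < T := by
      refine lt_of_le_of_ne ?_ ?_
      · intro x hx
        obtain ⟨a, -, rfl⟩ := hx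
        have : s a ∈ Set.range s := ⟨a, rfl⟩
        rw [hs] at this
        exact this
      · intro heq
        obtain ⟨a, ha⟩ := hU
        have h1 : s a ∈ (T' : Set X) := by
          rw [heq, ← hs]
          exact ⟨a, rfl⟩
        obtain ⟨b, hb, hab⟩ := h1
        exact hb (by rw [hse.injective hab]; exact ha)
    have hdec : f ⁻¹' (T : Set X) ⊆ f ⁻¹' (T' : Set X) ∪ Set.range l := by
      intro y hy
      have h1 : f y ∈ Set.range s := by rw [hs]; exact hy
      obtain ⟨a, ha⟩ := h1
      by_cases haU : a ∈ U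
      · right
        refine ⟨⟨a, haU⟩, ?_⟩
        apply f.injective
        have h2 := Scheme.Hom.comp_apply l f ⟨a, haU⟩
        rw [hl] at h2
        rw [← h2, ← ha]
        exact Scheme.Hom.comp_apply _ _ _
      · left
        exact ⟨a, haU, ha⟩
    have hcomp : IsCompact (Set.range l) := by
      have : NoetherianSpace ↥(Spec (CommRingCat.of A)) :=
        inferInstanceAs (NoetherianSpace (PrimeSpectrum A))
      have : NoetherianSpace ↥(U : Scheme.{u}) :=
        U.ι.isOpenEmbedding.isInducing.noetherianSpace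
      exact isCompact_range l.continuous
    have h3 := (ih T' hlt).union hcomp
    have heq : f ⁻¹' (T : Set X) = f ⁻¹' (T' : Set X) ∪ Set.range l := by
      refine subset_antisymm hdec (Set.union_subset (Set.preimage_mono (le_of_lt hlt)) ?_)
      rintro _ ⟨u, rfl⟩
      change f (l u) ∈ (T : Set X)
      rw [← Scheme.Hom.comp_apply, hl, Scheme.Hom.comp_apply, ← hs]
      exact ⟨_, rfl⟩
    rw [heq]
    exact h3
  · let T' : Closeds X := ⟨closure D₀, isClosed_closure⟩
    have hle : closure D₀ ⊆ (T : Set X) := T.2.closure_subset_iff.2 Set.inter_subset_left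
    have hlt : T' < T := lt_of_le_of_ne hle (fun h1 ↦ hD (congrArg SetLike.coe h1))
    have heq : f ⁻¹' (T : Set X) = f ⁻¹' (T' : Set X) := by
      apply subset_antisymm
      · intro y hy
        exact subset_closure ⟨hy, ⟨y, rfl⟩⟩
      · exact Set.preimage_mono hle
    rw [heq]
    exact ih T' hlt

/-- The affine Noetherian case. -/
theorem compactSpace_of_denseLift {R : Type u} [CommRing R] [IsNoetherianRing R] {Y : Scheme.{u}}
    (f : Y ⟶ Spec (CommRingCat.of R)) [Mono f] (h : DenseLift f) : CompactSpace Y := by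
  have key : ∀ T : Closeds ↥(Spec (CommRingCat.of R)),
      IsCompact (f ⁻¹' (T : Set ↥(Spec (CommRingCat.of R)))) := by
    intro T
    have : NoetherianSpace ↥(Spec (CommRingCat.of R)) :=
      inferInstanceAs (NoetherianSpace (PrimeSpectrum R))
    induction T using WellFoundedLT.induction with
    | ind T ih =>
    by_cases hirr : IsIrreducible (T : Set ↥(Spec (CommRingCat.of R)))
    · exact isCompact_of_irreducible f h T hirr ih
    by_cases hempty : (T : Set ↥(Spec (CommRingCat.of R))) = ∅
    · rw [hempty, Set.preimage_empty]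
      exact isCompact_empty
    have h1 : ¬ IsPreirreducible (T : Set ↥(Spec (CommRingCat.of R))) :=
      fun h2 ↦ hirr ⟨Set.nonempty_iff_ne_empty.2 hempty, h2⟩
    rw [isPreirreducible_iff_isClosed_union_isClosed] at h1
    push Not at h1
    obtain ⟨z₁, z₂, hz₁, hz₂, hT, h2, h3⟩ := h1
    let T₁ : Closeds ↥(Spec (CommRingCat.of R)) := ⟨T ∩ z₁, T.2.inter hz₁⟩
    let T₂ : Closeds ↥(Spec (CommRingCat.of R)) := ⟨T ∩ z₂, T.2.inter hz₂⟩
    have hlt₁ : T₁ < T := lt_of_le_of_ne Set.inter_subset_left (fun h4 ↦ h2 (by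
      have h5 : (T : Set ↥(Spec (CommRingCat.of R))) ∩ z₁ = T := congrArg SetLike.coe h4
      exact Set.inter_eq_left.1 h5))
    have hlt₂ : T₂ < T := lt_of_le_of_ne Set.inter_subset_left (fun h4 ↦ h3 (by
      have h5 : (T : Set ↥(Spec (CommRingCat.of R))) ∩ z₂ = T := congrArg SetLike.coe h4
      exact Set.inter_eq_left.1 h5))
    have heq : f ⁻¹' (T : Set ↥(Spec (CommRingCat.of R))) =
        f ⁻¹' (T₁ : Set ↥(Spec (CommRingCat.of R))) ∪ f ⁻¹' (T₂ : Set ↥(Spec (CommRingCat.of R))) := by
      rw [← Set.preimage_union]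
      congr 1
      change (T : Set ↥(Spec (CommRingCat.of R))) =
        (T : Set ↥(Spec (CommRingCat.of R))) ∩ z₁ ∪ (T : Set ↥(Spec (CommRingCat.of R))) ∩ z₂
      rw [← Set.inter_union_distrib_left]
      exact (Set.inter_eq_left.2 hT).symm
    rw [heq]
    exact (ih T₁ hlt₁).union (ih T₂ hlt₂)
  have h1 := key ⊤
  constructor
  exact h1

end K387.MonoQC
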