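import Groth.Agent.Mor.K387.MonoQC

/-!
# Quasi-compactness of monomorphisms, general locally Noetherian target
-/

set_option autoImplicit false
universe u

open CategoryTheory CategoryTheory.Limits AlgebraicGeometry TopologicalSpace

namespace K387.MonoQC2

open K387.MonoQC

theorem denseLift_comp_iso {X Y Z : Scheme.{u}} {f : Y ⟶ X} (h : DenseLift f) (e : X ⟶ Z)
    [IsIso e] : DenseLift (f ≫ e) := by
  intro A _ _ s D hD hl
  obtain ⟨U, hU, l, hlf⟩ := h A (s ≫ inv e) D hD (fun p hp ↦ by
    obtain ⟨l, hl⟩ := hl p hp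
    refine ⟨l, ?_⟩
    rw [← cancel_mono e, Category.assoc, hl, Category.assoc, Category.assoc, IsIso.inv_hom_id,
      Category.comp_id])
  refine ⟨U, hU, l, ?_⟩
  rw [← Category.assoc, hlf, Category.assoc, Category.assoc, IsIso.inv_hom_id, Category.comp_id]

/-- A monomorphism to a locally Noetherian scheme with the dense lifting property is quasi-compact. -/
theorem quasiCompact_of_denseLift {X Y : Scheme.{u}} [IsLocallyNoetherian X]
    (f : Y ⟶ X) [Mono f] (h : DenseLift f) : QuasiCompact f := by
  rw [IsZariskiLocalAtTarget.iff_of_iSup_eq_top (P := @QuasiCompact) _ (iSup_affineOpens_eq_top X)]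
  intro V
  have hV : IsAffine (V.1 : Scheme.{u}) := V.2
  have hN : IsNoetherianRing Γ(X, V.1) := IsLocallyNoetherian.component_noetherian V
  have h1 : Mono (f ∣_ V.1) := by
    have h0 : Mono (f ∣_ V.1 ≫ V.1.ι) := by
      rw [morphismRestrict_ι]
      infer_instance
    exact mono_of_mono _ V.1.ι
  have h2 := denseLift_comp_iso (h.restrict V.1) V.2.isoSpec.hom
  have h3 : CompactSpace ↥(f ⁻¹ᵁ V.1) := compactSpace_of_denseLift (R := Γ(X, V.1))
    (f ∣_ V.1 ≫ V.2.isoSpec.hom) h2
  rw [HasAffineProperty.iff_of_isAffine (P := @QuasiCompact)]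
  exact h3

end K387.MonoQC2
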