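import Groth.Agent.Mor.K387.Points
import Mathlib.AlgebraicGeometry.Morphisms.FlatMono
import Mathlib.AlgebraicGeometry.Morphisms.UniversallyInjective

/-!
# Monomorphisms of schemes and specializations

* `exists_lift_field`: a `K`-point of the target whose underlying point is the image of a point of the
  source lifts along a monomorphism.
* `specializes_of_hasLift`: a valuative lift gives a specialization in a base change of a monomorphism.
* `exists_section`: a valuation ring point of the target whose generic point and closed point lift to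
  points one specializing to the other lifts.
-/

set_option autoImplicit false
universe u

open CategoryTheory CategoryTheory.Limits AlgebraicGeometry IsLocalRing

namespace K387.MonoSpec

/-- A morphism between spectra of fields which is a monomorphism is an isomorphism. -/
theorem isIso_of_mono_field {K L : CommRingCat.{u}} (hK : IsField K) (hL : IsField L)
    (q : Spec L ⟶ Spec K) [Mono q] : IsIso q := by
  let _ := hK.toField
  let _ := hL.toField
  have : Flat q := by
    obtain ⟨φ, rfl⟩ := Spec.map_surjective q
    rw [Flat.SpecMap_iff]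
    algebraize [φ.hom]
    change Module.Flat _ _
    infer_instance
  have hs : Subsingleton ↥(Spec K) := inferInstanceAs (Subsingleton (PrimeSpectrum K))
  have hn : Nonempty ↥(Spec L) := inferInstanceAs (Nonempty (PrimeSpectrum L))
  have : Surjective q := ⟨fun x => ⟨hn.some, Subsingleton.elim _ _⟩⟩
  exact Flat.isIso_of_surjective_of_mono q

/-- The residue field maps of a monomorphism are isomorphisms. -/
theorem isIso_specMap_residueFieldMap {P X : Scheme.{u}} (p : P ⟶ X) [Mono p] (y : P) :
    IsIso (Spec.map (p.residueFieldMap y)) := by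
  have h1 : Mono (Spec.map (p.residueFieldMap y) ≫ X.fromSpecResidueField (p y)) := by
    rw [Scheme.Hom.SpecMap_residueFieldMap_fromSpecResidueField]
    infer_instance
  have h2 : Mono (Spec.map (p.residueFieldMap y)) := mono_of_mono _ (X.fromSpecResidueField (p y))
  exact isIso_of_mono_field (Field.toIsField _) (Field.toIsField _) _

/-- A morphism from the spectrum of a field factors through the residue field of its image. -/
theorem exists_fac_residueField {X : Scheme.{u}} {K : Type u} [Field K]
    (t : Spec (CommRingCat.of K) ⟶ X) (x : X) (hx : t (closedPoint K) = x) :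
    ∃ a : Spec (CommRingCat.of K) ⟶ Spec (X.residueField x), a ≫ X.fromSpecResidueField x = t := by
  subst hx
  exact ⟨_, Scheme.descResidueField_stalkClosedPointTo_fromSpecResidueField K X t⟩

/-- A morphism from the spectrum of a field to the target of a monomorphism whose image point is the
image of a point of the source factors through the monomorphism. -/
theorem exists_lift_field {P X : Scheme.{u}} (p : P ⟶ X) [Mono p] {K : Type u} [Field K]
    (t : Spec (CommRingCat.of K) ⟶ X) (y : P) (hy : t (closedPoint K) = p y) :
    ∃ t' : Spec (CommRingCat.of K) ⟶ P, t' ≫ p = t := by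
  obtain ⟨a, ha⟩ := exists_fac_residueField t (p y) hy
  have := isIso_specMap_residueFieldMap p y
  refine ⟨a ≫ inv (Spec.map (p.residueFieldMap y)) ≫ P.fromSpecResidueField y, ?_⟩
  rw [Category.assoc, Category.assoc, ← Scheme.Hom.SpecMap_residueFieldMap_fromSpecResidueField,
    IsIso.inv_hom_id_assoc, ha]

/-- A valuative lift produces a specialization in a base change of a monomorphism. -/
theorem specializes_of_hasLift {X Y X' : Scheme.{u}} (f : Y ⟶ X) [Mono f] (g : X' ⟶ X)
    (y₀ y₁ : ↥(pullback f g)) (R K : Type u) [CommRing R] [IsDomain R] [ValuationRing R] [Field K]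
    [Algebra R K] [IsFractionRing R K] (h : Spec (CommRingCat.of R) ⟶ X')
    (hc : h (closedPoint R) = pullback.snd f g y₀)
    (hg : (Spec.map (CommRingCat.ofHom (algebraMap R K)) ≫ h) (closedPoint K) =
      pullback.snd f g y₁)
    (H : ∀ (i₁ : Spec (CommRingCat.of K) ⟶ Y)
      (sq : CommSq i₁ (Spec.map (CommRingCat.ofHom (algebraMap R K))) f (h ≫ g)),
      (∃ l₀ : Spec (CommRingCat.of (ResidueField R)) ⟶ Y,
        l₀ ≫ f = Spec.map (CommRingCat.ofHom (residue R)) ≫ h ≫ g) → sq.HasLift) :
    y₁ ⤳ y₀ := by
  obtain ⟨t₁, ht₁⟩ := exists_lift_field (pullback.snd f g) _ y₁ hg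
  obtain ⟨t₀, ht₀⟩ := exists_lift_field (pullback.snd f g)
    (Spec.map (CommRingCat.ofHom (residue R)) ≫ h) y₀ (by
      rw [← hc]
      exact congrArg h (Points.specMap_residue_closedPoint (R := R)))
  have sq : CommSq (t₁ ≫ pullback.fst f g) (Spec.map (CommRingCat.ofHom (algebraMap R K))) f
      (h ≫ g) := by
    refine ⟨?_⟩
    rw [Category.assoc, pullback.condition, ← Category.assoc, ht₁, Category.assoc]
  obtain ⟨l, hl₁, hl₂⟩ := (H _ sq ⟨t₀ ≫ pullback.fst f g, by
    rw [Category.assoc, pullback.condition, ← Category.assoc, ht₀, Category.assoc]⟩).exists_lift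
  let l' : Spec (CommRingCat.of R) ⟶ pullback f g := pullback.lift l h hl₂
  have hl' : l' ≫ pullback.snd f g = h := pullback.lift_snd _ _ _
  have hinj : Function.Injective (pullback.snd f g) := (pullback.snd f g).injective
  have h0 : l' (closedPoint R) = y₀ := by
    apply hinj
    rw [← hc]
    have := Scheme.Hom.comp_apply l' (pullback.snd f g) (closedPoint R)
    rw [hl'] at this
    exact this.symm
  have h1 : l' (Spec.map (CommRingCat.ofHom (algebraMap R K)) (closedPoint K)) = y₁ := by
    apply hinj
    rw [← hg]
    have := Scheme.Hom.comp_apply l' (pullback.snd f g)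
      (Spec.map (CommRingCat.ofHom (algebraMap R K)) (closedPoint K))
    rw [hl'] at this
    exact this.symm
  rw [← h0, ← h1]
  exact (specializes_closedPoint _).map l'.continuous

/-- Any specialization in a scheme is realised by a valuation ring with prescribed generic point. -/
theorem exists_valuationRing {X : Scheme.{u}} {x₁ x₀ : X} (h : x₁ ⤳ x₀) :
    ∃ (R K : Type u) (_ : CommRing R) (_ : IsDomain R) (_ : ValuationRing R) (_ : Field K)
      (_ : Algebra R K) (_ : IsFractionRing R K) (g : Spec (CommRingCat.of R) ⟶ X),
      g (closedPoint R) = x₀ ∧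
        (Spec.map (CommRingCat.ofHom (algebraMap R K)) ≫ g) (closedPoint K) = x₁ := by
  let φ : X.presheaf.stalk x₀ ⟶ X.residueField x₁ :=
    X.presheaf.stalkSpecializes h ≫ X.residue x₁
  obtain ⟨A, hA, hA_local⟩ := exists_factor_valuationRing φ.hom
  let ψ : X.presheaf.stalk x₀ ⟶ .of A :=
    CommRingCat.ofHom (φ.hom.codRestrict _ hA)
  have w : X.fromSpecResidueField x₁ =
      Spec.map (CommRingCat.ofHom (algebraMap A (X.residueField x₁))) ≫
        Spec.map ψ ≫ X.fromSpecStalk x₀ := by
    rw [Scheme.fromSpecResidueField, ← Scheme.SpecMap_stalkSpecializes_fromSpecStalk h]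
    simp_rw [← Spec.map_comp_assoc]
    rfl
  refine ⟨A, X.residueField x₁, inferInstance, inferInstance, inferInstance, inferInstance,
    inferInstance, inferInstance, Spec.map ψ ≫ X.fromSpecStalk x₀, ?_, ?_⟩
  · have h1 : Spec.map ψ (closedPoint A) = closedPoint (X.presheaf.stalk x₀) :=
      comap_closedPoint (S := A) (φ.hom.codRestrict A.toSubring hA)
    exact (Scheme.Hom.comp_apply _ _ _).trans
      ((congrArg (X.fromSpecStalk x₀) h1).trans Scheme.fromSpecStalk_closedPoint)
  · have h1 := Scheme.fromSpecResidueField_apply (X := X) x₁ (closedPoint (X.residueField x₁))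
    rw [w] at h1
    exact h1

/-- If the generic point and the closed point of a valuation ring point of the target of `p` lift to
points `y₁ ⤳ y₀`, the generic point with values in the fraction field, then the valuation ring point
lifts (at least after identifying the target with the spectrum of the valuation ring). -/
theorem exists_section {P : Scheme.{u}} (R K : Type u) [CommRing R] [IsDomain R] [ValuationRing R]
    [Field K] [Algebra R K] [IsFractionRing R K] (p : P ⟶ Spec (CommRingCat.of R))
    (t : Spec (CommRingCat.of K) ⟶ P) (ht : t ≫ p = Spec.map (CommRingCat.ofHom (algebraMap R K)))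
    (y₀ : P) (hy₀ : p y₀ = closedPoint R) (hs : t (closedPoint K) ⤳ y₀) :
    ∃ l : Spec (CommRingCat.of R) ⟶ P, l ≫ p = 𝟙 _ ∧
      Spec.map (CommRingCat.ofHom (algebraMap R K)) ≫ l = t := by
  let O := P.presheaf.stalk y₀
  let θ : O ⟶ CommRingCat.of K := P.presheaf.stalkSpecializes hs ≫ Scheme.stalkClosedPointTo t
  have hθ : Spec.map θ ≫ P.fromSpecStalk y₀ = t := by
    rw [Spec.map_comp, Category.assoc, Scheme.SpecMap_stalkSpecializes_fromSpecStalk]
    exact Scheme.Spec_stalkClosedPointTo_fromSpecStalk t
  obtain ⟨α, hα⟩ := Spec.map_surjective (P.fromSpecStalk y₀ ≫ p)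
  have hcomp : α ≫ θ = CommRingCat.ofHom (algebraMap R K) := by
    apply Spec.map_injective
    rw [Spec.map_comp, hα, ← Category.assoc, hθ, ht]
  have hloc : ∀ r : R, r ∈ maximalIdeal R → α.hom r ∈ maximalIdeal O := by
    intro r hr
    have h1 : Spec.map α (closedPoint O) = closedPoint R := by
      rw [hα]
      exact (Scheme.Hom.comp_apply _ _ _).trans
        ((congrArg p Scheme.fromSpecStalk_closedPoint).trans hy₀)
    have h2 : (maximalIdeal O).comap α.hom = maximalIdeal R := congrArg PrimeSpectrum.asIdeal h1
    have h3 : r ∈ (maximalIdeal O).comap α.hom := by rw [h2]; exact hr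
    exact h3
  have hrange : ∀ o : O, θ.hom o ∈ (algebraMap R K).range := by
    intro o
    rcases ValuationRing.isInteger_or_isInteger R (θ.hom o) with ⟨r, hr⟩ | ⟨r, hr⟩
    · exact ⟨r, hr⟩
    · by_cases hu : IsUnit r
      · obtain ⟨u, rfl⟩ := hu
        refine ⟨(u⁻¹ : Rˣ), ?_⟩
        rw [← inv_inv (θ.hom o), ← hr]
        exact eq_inv_of_mul_eq_one_left (by rw [← map_mul]; simp)
      · by_cases h0 : θ.hom o = 0
        · exact ⟨0, by rw [h0, map_zero]⟩
        · exfalso
          have h1 : α.hom r * o ∈ maximalIdeal O :=
            Ideal.mul_mem_right _ _ (hloc r ((mem_maximalIdeal _).2 hu))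
          have h2 : IsUnit (1 - α.hom r * o) := by
            by_contra h
            have h3 : (1 : O) ∈ maximalIdeal O := by
              have := Ideal.add_mem _ ((mem_maximalIdeal _).2 h) h1
              rwa [sub_add_cancel] at this
            exact (Ideal.ne_top_iff_one _).1 (maximalIdeal.isMaximal O).ne_top h3
          have h3 : θ.hom (1 - α.hom r * o) = 0 := by
            have h4 : θ.hom (α.hom r) = algebraMap R K r := by
              have := congrArg (fun φ ↦ φ.hom r) hcomp
              exact this
            rw [map_sub, map_one, map_mul, h4, hr, inv_mul_cancel₀ h0, sub_self]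
          have h5 := h2.map θ.hom
          rw [h3] at h5
          exact not_isUnit_zero h5
  let e : R ≃+* (algebraMap R K).range :=
    RingEquiv.ofBijective (algebraMap R K).rangeRestrict
      ⟨fun a b hab ↦ IsFractionRing.injective R K (congrArg Subtype.val hab),
        (algebraMap R K).rangeRestrict_surjective⟩
  let ψ : O →+* R := (e.symm : (algebraMap R K).range →+* R).comp (θ.hom.codRestrict _ hrange)
  have hψ : (algebraMap R K).comp ψ = θ.hom := by
    ext o
    have h1 : (e (ψ o) : K) = θ.hom o := by
      change ((e (e.symm (θ.hom.codRestrict _ hrange o)) : (algebraMap R K).range) : K) = _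
      rw [RingEquiv.apply_symm_apply]
      rfl
    exact h1
  have hψ' : CommRingCat.ofHom ψ ≫ CommRingCat.ofHom (algebraMap R K) = θ := by
    ext o
    exact congrArg (fun φ ↦ φ o) hψ
  have hαψ : α ≫ CommRingCat.ofHom ψ = 𝟙 _ := by
    ext r
    apply IsFractionRing.injective R K
    have h1 := congrArg (fun φ ↦ φ.hom (α.hom r)) hψ'
    have h2 := congrArg (fun φ ↦ φ.hom r) hcomp
    exact h1.trans h2
  refine ⟨Spec.map (CommRingCat.ofHom ψ) ≫ P.fromSpecStalk y₀, ?_, ?_⟩
  · rw [Category.assoc, ← hα, ← Spec.map_comp]
    exact (congrArg Spec.map hαψ).trans (Spec.map_id _)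
  · rw [← Category.assoc, ← Spec.map_comp, hψ', hθ]

end K387.MonoSpec
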