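import Groth.Agent.EGA2.K41.RImm
import Groth.Agent.Ega2.RelAmp
import Groth.Agent.Mor.K387.LinePow

/-!
# The morphism `r_{L,ψ}` for an ample module

`u : 𝒮 → q_* ℬ` graded, `ℬ` a line algebra on `X`.
* `mem_deg_of_isHom`: if `u` is injective over `U`, degrees can be read off in `ℬ`;
* `kappa_injective`, `kappa_surjective`: `κ : 𝒮(U)_(s) → Γ(X_s)` when `u` is injective / bijective over `U`;
* `exists_fam_of_ampleOn`: `L` ample on `q⁻¹(U)` gives covering families;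
* `isAffineOpen_nvs_of_le`: `X_s` is affine when contained in a line chart;
* `isCompact_nvs`, `quasiCompact_r`, `isDominant_r`.
-/

set_option autoImplicit false
set_option linter.unusedSectionVars false
universe u
open CategoryTheory CategoryTheory.Limits AlgebraicGeometry TopologicalSpace Opposite
open scoped HomogeneousIdeal

noncomputable section

namespace K387.RFam
open K41.LineAlg K41.LineRing K41.NV K41.PLine K41.RPhi K41.RKappa K41.RKappa2 K41.RCrit K41.RImm K42.DomQ K42.DomMap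
  K42.Dominant K387.LineExt K387.LinePow

variable {X Y : Scheme.{u}} {q : X ⟶ Y} {𝒮 : RelProj.QCGrAlg Y} {ℬ : RelProj.QCGrAlg X}
  (u : RelProj.QGrHom q 𝒮 ℬ)

section deg

variable {U : Y.Opens} (hU : IsAffineOpen U)

include hU in
/-- Degrees can be read off in `ℬ` when `u` is injective over `U`. -/
theorem mem_deg_of_isHom (hinj : Function.Injective (u.app U).hom) {s : 𝒮.presheaf.obj (op U)} {n : ℕ}
    (h : IsHom (us u U s) n) : s ∈ 𝒮.deg U hU n := by
  have h1 : us u U s = us u U (DirectSum.decompose (𝒮.deg U hU) s n : 𝒮.presheaf.obj (op U)) := by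
    choose V hV hxV hVU using fun x : (q ⁻¹ᵁ U : X.Opens) =>
      exists_isAffineOpen_mem_and_subset (x := x.1) (U := q ⁻¹ᵁ U) x.2
    have hVU' : ∀ x, V x ≤ q ⁻¹ᵁ U := fun x => hVU x
    refine ext_of_cover V hVU' (fun x hx => Opens.mem_iSup.mpr ⟨⟨x, hx⟩, hxV _⟩) fun x => ?_
    have h2 : (u.gradedAt U hU (V x) (hV x) (hVU' x)) (DirectSum.decompose (𝒮.deg U hU) s n : 𝒮.presheaf.obj (op U)) =
        (DirectSum.decompose (ℬ.deg (V x) (hV x)) ((u.gradedAt U hU (V x) (hV x) (hVU' x)) s) n :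
          ℬ.presheaf.obj (op (V x))) := (u.gradedAt U hU (V x) (hV x) (hVU' x)).map_directSumDecompose
    have h3 : (u.gradedAt U hU (V x) (hV x) (hVU' x)) s ∈ ℬ.deg (V x) (hV x) n := h (V x) (hV x) (hVU' x)
    rw [DirectSum.decompose_of_mem_same _ h3] at h2
    exact h2.symm
  rw [hinj h1]
  exact SetLike.coe_mem _

end deg

section compact

/-- The nonvanishing open is quasi-compact over a quasi-compact open. -/
theorem isCompact_nv {𝒜 : RelProj.QCGrAlg X} (h : IsLineAlg 𝒜) {W : X.Opens} (hW : IsCompact (W : Set X))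
    {t : 𝒜.presheaf.obj (op W)} {d : ℕ} (ht : IsHom t d) : IsCompact ((nv t d : X.Opens) : Set X) := by
  obtain ⟨ι, _, V, hV, T, hVW, hT, hc⟩ := finite_line_cover h hW
  have h1 : ∀ i, ∃ a : Γ(X, V i), K41.LineAlg.res 𝒜 (hVW i) t = str 𝒜 (V i) a * T i ^ d := fun i =>
    (hT i).surj d _ (ht (V i) (hV i) (hVW i))
  choose a ha using h1
  have h2 : ((nv t d : X.Opens) : Set X) = ⋃ i, ((X.basicOpen (a i) : X.Opens) : Set X) := by
    ext x
    rw [Set.mem_iUnion]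
    constructor
    · intro hx
      obtain ⟨i, hi⟩ := Opens.mem_iSup.mp (hc (nv_le _ _ hx))
      refine ⟨i, ?_⟩
      rw [← nv_inf_line (hT i) (hVW i) t d (a i) (ha i)]
      exact ⟨hx, hi⟩
    · rintro ⟨i, hi⟩
      rw [← nv_inf_line (hT i) (hVW i) t d (a i) (ha i)] at hi
      exact hi.1
  rw [h2]
  exact isCompact_iUnion fun i => ((hV i).basicOpen (a i)).isCompact

/-- The nonvanishing open is affine when contained in a line chart. -/
theorem isAffineOpen_nv_of_le {𝒜 : RelProj.QCGrAlg X} {W V : X.Opens} {hV : IsAffineOpen V}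
    {T : 𝒜.presheaf.obj (op V)} (hT : LineOn 𝒜 V hV T) (i : V ≤ W) {t : 𝒜.presheaf.obj (op W)} {d : ℕ}
    (ht : IsHom t d) (hle : nv t d ≤ V) : IsAffineOpen (nv t d) := by
  obtain ⟨a, ha⟩ := hT.surj d _ (ht V hV i)
  have h1 := nv_inf_line hT i t d a ha
  rw [inf_eq_left.mpr hle] at h1
  rw [h1]
  exact hV.basicOpen a

end compact

section kappa

variable (hB : IsLineAlg ℬ) {U : Y.Opens} (hU : IsAffineOpen U)

include hB hU in
/-- Condition (iv) for all sections, when `u` is injective over `U`. -/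
theorem inj_of_injective (hinj : Function.Injective (u.app U).hom) (hc : IsCompact ((q ⁻¹ᵁ U : X.Opens) : Set X))
    {d : ℕ} {s : 𝒮.presheaf.obj (op U)} (hs : s ∈ 𝒮.deg U hU d) (s' : 𝒮.presheaf.obj (op U))
    (h0 : (u.appLE U _ (nvs_le u U s d)).hom s' = 0) : ∃ k : ℕ, 0 < k ∧ s ^ k * s' = 0 := by
  obtain ⟨k, hk⟩ := exists_pow_mul_eq_zero hB hc (isHom_us u hU hs) (z := us u U s') h0
  refine ⟨k + 1, Nat.succ_pos k, hinj ?_⟩
  have h1 : us u U (s ^ k * s') = 0 := by rw [us_mul, us_pow]; exact hk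
  change us u U (s ^ (k + 1) * s') = (u.app U).hom 0
  rw [pow_succ', mul_assoc, us_mul, h1, mul_zero, map_zero]

include hB hU in
/-- Functions on `X_s` are fractions, when `u` is bijective over `U`. -/
theorem surj_of_bijective (hb : Function.Bijective (u.app U).hom) (hc : IsCompact ((q ⁻¹ᵁ U : X.Opens) : Set X))
    (hq : IsQuasiSeparated ((q ⁻¹ᵁ U : X.Opens) : Set X))
    {d : ℕ} {s : 𝒮.presheaf.obj (op U)} (hs : s ∈ 𝒮.deg U hU d) (t : Γ(X, nvs u U s d)) :
    ∃ (m : ℕ) (_ : 0 < m) (s' : 𝒮.presheaf.obj (op U)) (_ : s' ∈ 𝒮.deg U hU (m * d)),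
      (ℬ.str.app (op (nvs u U s d))).hom t * ((u.appLE U _ (nvs_le u U s d)).hom s) ^ m =
        (u.appLE U _ (nvs_le u U s d)).hom s' := by
  have hy : IsHom (str ℬ (nvs u U s d) t) 0 := fun V hV i => by
    rw [res_str]; exact str_mem hV _
  obtain ⟨k, y, hyd, hy⟩ := exists_extend hB hc hq (isHom_us u hU hs) hy
  obtain ⟨s'', hs''⟩ := hb.2 y
  have hs2 : us u U s'' = y := hs''
  have h1 : s'' ∈ 𝒮.deg U hU (k * d + 0) := mem_deg_of_isHom u hU hb.1 (by rw [hs2]; exact hyd)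
  refine ⟨k + 1, Nat.succ_pos k, s * s'', ?_, ?_⟩
  · have h2 := SetLike.mul_mem_graded hs h1
    have h3 : d + (k * d + 0) = (k + 1) * d := by ring
    rwa [h3] at h2
  · change str ℬ (nvs u U s d) t * (K41.LineAlg.res ℬ (nvs_le u U s d) (us u U s)) ^ (k + 1) =
      K41.LineAlg.res ℬ (nvs_le u U s d) (us u U (s * s''))
    rw [us_mul, map_mul, hs2]
    have h3 : K41.LineAlg.res ℬ (nvs_le u U s d) y =
      K41.LineAlg.res ℬ (nvs_le u U s d) (us u U s) ^ k * str ℬ (nvs u U s d) t := hy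
    rw [h3]; ring

end kappa

section fam

variable {L : X.Modules} {jL : L ⟶ ℬ.toModule} (hL : PicF.IsInvertible L) (hLq : Coh.IsQCoh L)
  (hjL : RelProj.IsGrSymAlg L ℬ jL)

include hL hLq hjL in
/-- `L` ample on `q⁻¹(U)` and `u` bijective over `U`: covering families. -/
theorem exists_fam_of_ampleOn {U : Y.Opens} (hU : IsAffineOpen U) (hb : Function.Bijective (u.app U).hom)
    (h : Groth.Agent.Ega2.Ample.AmpleOn L (q ⁻¹ᵁ U)) :
    ∃ (ι : Type u) (n : ι → ℕ) (s : ι → 𝒮.presheaf.obj (op U)), Fam u U hU n s ∧ FamInj u U hU n s := by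
  have hB := K41.SymLine.isLineAlg hL hLq hjL
  choose n hn t hxt haff using fun x : (q ⁻¹ᵁ U : X.Opens) => h.exists_nv x.1 x.2
  choose s hs using fun x => hb.2 (sv (powHom jL (n x)) (t x))
  have hs' : ∀ x, us u U (s x) = sv (powHom jL (n x)) (t x) := hs
  have hmem : ∀ x, s x ∈ 𝒮.deg U hU (n x) := fun x => mem_deg_of_isHom u hU hb.1 (by
    rw [hs']; exact isHom_powHom hL hLq hjL (t x))
  have hnv : ∀ x, nvs u U (s x) (n x) = Groth.Agent.Ega2.Nv.nv _ (t x) := fun x => by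
    rw [← nv_powHom hL hLq hjL, ← hs']; rfl
  refine ⟨(q ⁻¹ᵁ U : X.Opens), n, s, ⟨hn, hmem, fun x hx => ⟨⟨x, hx⟩, ?_⟩, fun x => ?_, fun x y => ?_⟩,
    fun x m _ s' _ h0 => ?_⟩
  · rw [hnv]; exact hxt _
  · rw [hnv]; exact haff _
  · exact surj_of_bijective u hB hU hb h.isCompact h.isQuasiSeparated (hmem x) y
  · exact inj_of_injective u hB hU hb.1 h.isCompact (hmem x) s' h0

include hL hLq hjL in
/-- `L` is ample on `q⁻¹(U)` when it is covered by affine nonvanishing opens of homogeneous sections over `U`. -/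
theorem ampleOn_of_cover {U : Y.Opens} (hU : IsAffineOpen U) (hc : IsCompact ((q ⁻¹ᵁ U : X.Opens) : Set X))
    (h : ∀ x ∈ q ⁻¹ᵁ U, ∃ (d : ℕ) (_ : 0 < d) (s : 𝒮.presheaf.obj (op U)) (_ : s ∈ 𝒮.deg U hU d),
      x ∈ nvs u U s d ∧ IsAffineOpen (nvs u U s d)) : Groth.Agent.Ega2.Ample.AmpleOn L (q ⁻¹ᵁ U) := by
  refine ⟨locGen hL _, hc, fun x hx => ?_⟩
  obtain ⟨d, hd, s, hs, hxs, haff⟩ := h x hx
  obtain ⟨t, ht⟩ := exists_powHom hL hLq hjL (isHom_us u hU hs)
  have h1 : Groth.Agent.Ega2.Nv.nv _ t = nvs u U s d := by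
    rw [← nv_powHom hL hLq hjL, ht]; rfl
  exact ⟨d, hd, t, by rw [h1]; exact hxs, by rw [h1]; exact haff⟩

end fam

section mor

variable
  {P : Scheme.{u}} {p : P ⟶ Y}
  {chart : ∀ (U : Y.Opens) (hU : IsAffineOpen U), (((p ⁻¹ᵁ U : P.Opens) : Scheme.{u}) ≅ Proj (𝒮.deg U hU))}
  (hP : RelProj.IsRelProj 𝒮 p chart)
  {PL : Scheme.{u}} {pL : PL ⟶ X}
  {chartL : ∀ (U : X.Opens) (hU : IsAffineOpen U), (((pL ⁻¹ᵁ U : PL.Opens) : Scheme.{u}) ≅ Proj (ℬ.deg U hU))}
  (hPL : RelProj.IsRelProj ℬ pL chartL) (hB : IsLineAlg ℬ)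
  {r : ((RelProj.domQ u pL chartL : PL.Opens) : Scheme.{u}) ⟶ P}
  (hr : RelProj.IsProjQMapOn u p chart pL chartL (RelProj.domQ u pL chartL) r)

include hP hPL hB hr in
/-- If `r` is an embedding, every point of `q⁻¹(U)` has an affine neighbourhood `X_s`. -/
theorem exists_affine_of_embedding (htop : RelProj.domQ u pL chartL = ⊤) (hemb : Topology.IsEmbedding r.base)
    {U : Y.Opens} (hU : IsAffineOpen U) (x : X) (hx : x ∈ q ⁻¹ᵁ U) :
    ∃ (d : ℕ) (_ : 0 < d) (s : 𝒮.presheaf.obj (op U)) (_ : s ∈ 𝒮.deg U hU d),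
      x ∈ nvs u U s d ∧ IsAffineOpen (nvs u U s d) := by
  have hiso := isIso_p hPL hB
  obtain ⟨V, hV, T, hxV, hVU, hT⟩ := exists_lineOn_le hB hx
  obtain ⟨y, rfl⟩ : ∃ y, pL.base y = x := pL.homeomorph.surjective x
  have hy : y ∈ RelProj.domQ u pL chartL := htop ▸ trivial
  let y' : ((RelProj.domQ u pL chartL : PL.Opens) : Scheme.{u}) := ⟨y, hy⟩
  obtain ⟨O, hO, hOV⟩ := hemb.isOpen_iff.mp ((RelProj.domQ u pL chartL).ι ⁻¹ᵁ (pL ⁻¹ᵁ V)).isOpen
  have h1 : r.base y' ∈ p ⁻¹ᵁ U := by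
    have h2 : y' ∈ r ⁻¹ᵁ (p ⁻¹ᵁ U) := by
      rw [preimage_p u hP hPL hr]; exact hx
    exact h2
  have h3 : r.base y' ∈ O := by
    have h4 : y' ∈ r.base ⁻¹' O := by rw [hOV]; exact hxV
    exact h4
  obtain ⟨d, hd, s, hs, hys, hle⟩ := exists_std_le p chart U hU (r.base y') h1 ⟨O, hO⟩ h3
  have h5 : y' ∈ r ⁻¹ᵁ std p chart U hU s := hys
  rw [preimage_std u hP hPL hB hr hU hd hs] at h5
  refine ⟨d, hd, s, hs, h5, isAffineOpen_nv_of_le hT hVU (isHom_us u hU hs) ?_⟩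
  intro z hz
  obtain ⟨w, rfl⟩ : ∃ w, pL.base w = z := pL.homeomorph.surjective z
  have hw : w ∈ RelProj.domQ u pL chartL := htop ▸ trivial
  let w' : ((RelProj.domQ u pL chartL : PL.Opens) : Scheme.{u}) := ⟨w, hw⟩
  have h6 : w' ∈ r ⁻¹ᵁ std p chart U hU s := by
    rw [preimage_std u hP hPL hB hr hU hd hs]; exact hz
  have h7 : w' ∈ r.base ⁻¹' O := hle h6
  rw [hOV] at h7
  exact h7

include hP hPL hB hr in
/-- `r_{L,ψ}` is quasi-compact if `q` is. -/
theorem quasiCompact_r [QuasiCompact q] : QuasiCompact r := by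
  have hiso := isIso_p hPL hB
  refine of_forall_isPullback (Q := @QuasiCompact) r fun z => ?_
  obtain ⟨U, hU, hzU, -⟩ := exists_isAffineOpen_mem_and_subset (x := p.base z) (U := ⊤) trivial
  obtain ⟨d, hd, s, hs, hzs, -⟩ := exists_std_le p chart U hU z hzU ⊤ trivial
  refine ⟨_, _, kmor u hP hPL hB hr hU hd hs (le_refl _), _, aff p chart U hU hd s hs, inferInstance, ?_,
    isPullback_kmor u hP hPL hB hr hU hd hs, ?_⟩
  · rw [← opensRange_aff U hU hd s hs] at hzs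
    exact hzs
  · have h1 : CompactSpace (nvs u U s d : Scheme.{u}) := isCompact_iff_compactSpace.mp
      (isCompact_nv hB (q.isCompact_preimage hU.isCompact) (isHom_us u hU hs))
    exact (quasiCompact_iff_compactSpace (kmor u hP hPL hB hr hU hd hs (le_refl _))).mpr h1

include hP hPL hr in
/-- `r_{L,ψ}` is dominant if `u` is injective over a cover. -/
theorem isDominant_r [QuasiCompact q] (𝒞 : Set Y.affineOpens) (h𝒞 : ∀ y : Y, ∃ U ∈ 𝒞, y ∈ (U : Y.Opens))
    (hinj : ∀ U ∈ 𝒞, Function.Injective (u.app U.1).hom) : IsDominant r := by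
  refine (isDominant_iff u hP hPL hr 𝒞 h𝒞).mpr fun U hU𝒞 d hd f hf H => ?_
  have hc := q.isCompact_preimage U.2.isCompact
  obtain ⟨ι, _, V, hV, hVU, -, hcov⟩ := Groth.Agent.Ega2.Nv.exists_finite_affine_cover hc (fun _ => True)
    (fun _ _ _ _ => trivial) (fun x hx => ⟨⊤, trivial, trivial⟩)
  cases nonempty_fintype ι
  choose N hN using fun i => H (V i) (hV i) (hVU i)
  refine ⟨Finset.univ.sup N, hinj U hU𝒞 ?_⟩
  change us u U.1 (f ^ Finset.univ.sup N) = (u.app U.1).hom 0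
  rw [map_zero, us_pow]
  refine ext_of_cover V hVU hcov fun i => ?_
  have hle : N i ≤ Finset.univ.sup N := Finset.le_sup (Finset.mem_univ i)
  have h1 : (K41.LineAlg.res ℬ (hVU i) (us u U.1 f)) ^ N i = 0 := hN i
  rw [map_pow, map_zero, ← Nat.sub_add_cancel hle, pow_add, h1, mul_zero]

end mor

end K387.RFam
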