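import Groth.Agent.EGA2.K41.RImm
import Groth.Agent.EGA2.K43.Piece
import Groth.Agent.EGA2.K35.Dehom
import Groth.Agent.Mor.K387.LinePow

/-!
# From an immersion `r_{L,ψ}` with `𝒜` generated in degree one to the section-level very ampleness

`u : 𝒜 → q_* ℬ` graded, `(ℬ, j)` the graded symmetric algebra of the invertible module `L`.
* `exists_phi`: the morphism `φ : 𝒜_1 ⟶ q_* L` with `j (φ e) = u e`;
* `va_of_immersion`: if `𝒜` is generated in degree one, every point of `X` is in `X_e` for some `e` of degree one, and `r` is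
  an immersion, then `VA q φ`.
-/

set_option autoImplicit false
set_option linter.unusedSectionVars false
universe u
open CategoryTheory CategoryTheory.Limits AlgebraicGeometry TopologicalSpace Opposite
open scoped HomogeneousIdeal

noncomputable section

namespace K387.RVA
open K41.LineAlg K41.LineRing K41.NV K41.PLine K41.RPhi K41.RKappa K41.RKappa2 K41.RImm K42.DomQ K42.DomMap
  K387.LineExt K387.LinePow Groth.Agent.Fdesc.LocGen K43.HomImm K43.VADef K43.Piece K43.CanMap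

variable {X : Scheme.{u}} {L : X.Modules} {ℬ : RelProj.QCGrAlg X} {j : L ⟶ ℬ.toModule}
  (hL : PicF.IsInvertible L) (hLq : Coh.IsQCoh L) (hj : RelProj.IsGrSymAlg L ℬ j)

section degone

include hLq hj in
theorem line_one {V : X.Opens} (hV : IsAffineOpen V) {e : Γ(L, V)} (he : IsGen e) :
    LineOn ℬ V hV (sv j e) := K41.SymLine.lineOn hLq hj V hV e he

theorem sv_smul_one {V : X.Opens} (a : Γ(X, V)) (e : Γ(L, V)) : sv j (a • e) = str ℬ V a * sv j e ^ 1 := by
  rw [sv_smul, pow_one]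

include hL hLq hj in
theorem isHom_j {W : X.Opens} (l : Γ(L, W)) : IsHom (sv j l) 1 := by
  intro V hV i
  rw [← sv_res]
  exact hj.2 V hV _

include hL hLq hj in
theorem nv_j {W : X.Opens} (l : Γ(L, W)) : K41.NV.nv (sv j l) 1 = Groth.Agent.Ega2.Nv.nv _ l := by
  ext x
  by_cases hx : x ∈ W
  · obtain ⟨V, hV, e, hxV, hVW, he⟩ := exists_gen_le hL hx
    obtain ⟨a, ha⟩ := he.exists_eq (Groth.Agent.Fdesc.LocGen.res _ hVW l)
    have h1 : K41.LineAlg.res ℬ hVW (sv j l) = str ℬ V a * sv j e ^ 1 := by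
      rw [← sv_res, ha, sv_smul_one]
    have h2 := nv_inf_line (line_one hLq hj hV he) hVW _ 1 a h1
    have h3 := Groth.Agent.Ega2.Nv.nv_inf_of_eq_smul l hVW he a ha
    constructor
    · intro h
      have h4 : x ∈ K41.NV.nv (sv j l) 1 ⊓ V := ⟨h, hxV⟩
      rw [h2, ← h3] at h4
      exact h4.2
    · intro h
      have h4 : x ∈ V ⊓ Groth.Agent.Ega2.Nv.nv _ l := ⟨hxV, h⟩
      rw [h3, ← h2] at h4
      exact h4.1
  · exact ⟨fun h => absurd (K41.NV.nv_le _ _ h) hx, fun h => absurd (Groth.Agent.Ega2.Nv.nv_le _ _ h) hx⟩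

include hL hLq hj in
theorem j_injective {W : X.Opens} : Function.Injective (fun s : Γ(L, W) => sv j s) := by
  intro s t hst
  choose V hV e hxV hVW he using fun x : W => exists_gen_le hL x.2
  refine res_ext _ V hVW (fun x hx => Opens.mem_iSup.mpr ⟨⟨x, hx⟩, hxV _⟩) fun x => ?_
  obtain ⟨a, ha⟩ := (he x).exists_eq (Groth.Agent.Fdesc.LocGen.res _ (hVW x) s)
  obtain ⟨b, hb⟩ := (he x).exists_eq (Groth.Agent.Fdesc.LocGen.res _ (hVW x) t)
  have h1 : str ℬ _ a * sv j (e x) ^ 1 = str ℬ _ b * sv j (e x) ^ 1 := by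
    rw [← sv_smul_one, ← sv_smul_one, ← ha, ← hb, sv_res, sv_res]
    exact congrArg _ hst
  rw [ha, hb, (line_one hLq hj (hV x) (he x)).ext h1]

include hL hLq hj in
theorem exists_j {W : X.Opens} {t : ℬ.presheaf.obj (op W)} (ht : IsHom t 1) : ∃ s : Γ(L, W), sv j s = t := by
  choose V hV e hxV hVW he using fun x : W => exists_gen_le hL x.2
  have h1 : ∀ x : W, ∃ a : Γ(X, V x), K41.LineAlg.res ℬ (hVW x) t = str ℬ (V x) a * sv j (e x) ^ 1 := fun x =>
    (line_one hLq hj (hV x) (he x)).surj 1 _ (ht (V x) (hV x) (hVW x))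
  choose a ha using h1
  have hc : W ≤ ⨆ x : W, V x := fun x hx => Opens.mem_iSup.mpr ⟨⟨x, hx⟩, hxV _⟩
  obtain ⟨s, hs⟩ := res_glue L V hVW hc (fun x => a x • e x) (by
    intro x y
    apply j_injective hL hLq hj
    dsimp only
    rw [sv_res, sv_res, sv_smul_one, sv_smul_one, ← ha, ← ha, K41.LineAlg.res_res, K41.LineAlg.res_res])
  refine ⟨s, ext_of_cover V hVW hc fun x => ?_⟩
  rw [← sv_res, hs, sv_smul_one, ha]

end degone

variable {Y : Scheme.{u}} {q : X ⟶ Y} {𝒜 : RelProj.QCGrAlg Y} (u : RelProj.QGrHom q 𝒜 ℬ)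

/-- The section `u(e)` for `e` in the degree-one part. -/
abbrev ue {U : Y.Opens} (e : Γ(piece 𝒜 1, U)) : ℬ.presheaf.obj (op (q ⁻¹ᵁ U)) := us u U (jv (pieceι 𝒜 1) e)

theorem us_res {U V : Y.Opens} (h : V ≤ U) (s : 𝒜.presheaf.obj (op U)) :
    us u V ((𝒜.presheaf.map (homOfLE h).op).hom s) = K41.LineAlg.res ℬ (q.preimage_mono h) (us u U s) :=
  congr(($(u.naturality h)).hom s).symm

include hL hLq hj in
/-- The degree-one part of `u`, as a morphism `𝒜_1 ⟶ q_* L`. -/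
theorem exists_phi : ∃ φ : piece 𝒜 1 ⟶ (Scheme.Modules.pushforward q).obj L,
    ∀ (U : Y.Opens) (_ : IsAffineOpen U) (e : Γ(piece 𝒜 1, U)), sv j (se q φ e) = ue u e := by
  have H : ∀ (U : Y.affineOpens) (e : Γ(piece 𝒜 1, U.1)), ∃ l : Γ(L, q ⁻¹ᵁ U.1), sv j l = ue u e := fun U e =>
    exists_j hL hLq hj (isHom_us u U.2 (pieceι_mem 𝒜 1 U.2 e))
  choose g hg using H
  obtain ⟨φ, hφ⟩ := Groth.Agent.Fdesc.GlueAff.exists_hom_affine (piece 𝒜 1) ((Scheme.Modules.pushforward q).obj L)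
    (fun V x => (show Γ((Scheme.Modules.pushforward q).obj L, V.1) from g V x)) (by
      intro V x y
      apply j_injective hL hLq hj
      change sv j (g V (x + y)) = sv j (g V x + g V y)
      rw [sv_add, hg, hg, hg, ue, jv_add, us, map_add]; rfl) (by
      intro V r x
      apply j_injective hL hLq hj
      change sv j (g V (r • x)) = sv j ((q.app V.1 r : Γ(X, q ⁻¹ᵁ V.1)) • g V x)
      rw [sv_smul, hg, hg, ue, jv_smul, us_mul]
      congr 1
      exact congr(($(u.str_app V.1)).hom r)) (by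
      intro V V' h x
      apply j_injective hL hLq hj
      change sv j (g V' (res _ h x)) = sv j (res L (q.preimage_mono h) (g V x))
      rw [sv_res, hg, hg, ue, jv_res, us_res])
  refine ⟨φ, fun U hU e => ?_⟩
  have h1 : se q φ e = g ⟨U, hU⟩ e := hφ ⟨U, hU⟩ e
  rw [h1, hg]

section imm

variable
  {P : Scheme.{u}} {p : P ⟶ Y}
  {chart : ∀ (U : Y.Opens) (hU : IsAffineOpen U), (((p ⁻¹ᵁ U : P.Opens) : Scheme.{u}) ≅ Proj (𝒜.deg U hU))}
  (hP : RelProj.IsRelProj 𝒜 p chart)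
  {PL : Scheme.{u}} {pL : PL ⟶ X}
  {chartL : ∀ (U : X.Opens) (hU : IsAffineOpen U), (((pL ⁻¹ᵁ U : PL.Opens) : Scheme.{u}) ≅ Proj (ℬ.deg U hU))}
  (hPL : RelProj.IsRelProj ℬ pL chartL)
  {r : ((RelProj.domQ u pL chartL : PL.Opens) : Scheme.{u}) ⟶ P}
  (hr : RelProj.IsProjQMapOn u p chart pL chartL (RelProj.domQ u pL chartL) r)

include hL hLq hj hP hPL hr in
/-- The condition at a point of `X_e`, `e` of degree one. -/
theorem at_of_immersion (h1 : 𝒜.IsGenDegOne) [IsImmersion r]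
    {φ : piece 𝒜 1 ⟶ (Scheme.Modules.pushforward q).obj L}
    (hφ : ∀ (U : Y.Opens) (_ : IsAffineOpen U) (e : Γ(piece 𝒜 1, U)), sv j (se q φ e) = ue u e)
    {U : Y.Opens} (hU : IsAffineOpen U) {e : 𝒜.presheaf.obj (op U)} (he : e ∈ 𝒜.deg U hU 1) {x : X}
    (hx : x ∈ nvs u U e 1) : At q φ U x := by
  have hB := K41.SymLine.isLineAlg hL hLq hj
  have hiso := isIso_p hPL hB
  obtain ⟨e', rfl⟩ := exists_pieceι 𝒜 1 hU he
  have hnz : nz q φ e' = nvs u U (jv (pieceι 𝒜 1) e') 1 := by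
    rw [nz, ← nv_j hL hLq hj, hφ U hU]; rfl
  refine ⟨e', by rw [hnz]; exact hx, ?_⟩
  -- the ratio ring over `nvs`
  set W := nvs u U (jv (pieceι 𝒜 1) e') 1 with hW
  have hWU : W ≤ q ⁻¹ᵁ U := nvs_le u U _ 1
  let κ := kappa u hP hPL hB hr hU one_pos he (le_refl W)
  have hk : IsImmersion (mor W κ) := by
    have h2 : mor W κ = kmor u hP hPL hB hr hU one_pos he (le_refl W) :=
      toSpecΓ_kappa u hP hPL hB hr hU one_pos he (le_refl W)
    rw [h2]
    exact MorphismProperty.of_isPullback (P := @IsImmersion)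
      (isPullback_kmor u hP hPL hB hr hU one_pos he).flip inferInstance
  have h3 : HImm W κ.range := (isImmersion_mor_iff κ).mp hk
  refine himm_congr hnz _ _ ?_ h3
  rintro _ ⟨b, rfl⟩
  -- the subring of elements mapping to the ratio ring
  let C : Subring (HomogeneousLocalization.Away (𝒜.deg U hU) (jv (pieceι 𝒜 1) e')) :=
    (ratioRing q φ e').comap ((ores hnz.le).comp κ)
  have hC : C = ⊤ := by
    refine K35.Dehom.subring_eq_top he (h1 U hU) C fun a ha => ?_
    obtain ⟨a', rfl⟩ := exists_pieceι 𝒜 1 hU ha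
    rw [K35.Dehom.dehom_of_mem he ha]
    have h4 := (kappa_eq_iff u hP hPL hB hr hU one_pos he (le_refl W) 1 (jv (pieceι 𝒜 1) a')
      (K35.Dehom.mem_one_smul _ ha) hWU _).mp rfl
    refine ratio_mem_ratioRing q φ e' a' ?_
    apply j_injective hL hLq hj
    dsimp only
    rw [sv_res, sv_smul, sv_res, hφ U hU, hφ U hU]
    have h5 := congrArg (K41.LineAlg.res ℬ hnz.le) h4
    rw [pow_one, map_mul, res_str, K41.LineAlg.res_res, K41.LineAlg.res_res] at h5
    exact h5.symm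
  have h6 : b ∈ C := by rw [hC]; trivial
  exact h6

include hL hLq hj hP hPL hr in
/-- **`r_{L,ψ}` an immersion gives section-level very ampleness**, for `𝒜` generated in degree one. -/
theorem va_of_immersion (h1 : 𝒜.IsGenDegOne) [IsImmersion r]
    (hsurj : ∀ x : X, ∃ (U : Y.Opens) (hU : IsAffineOpen U) (e : 𝒜.presheaf.obj (op U)) (_ : e ∈ 𝒜.deg U hU 1),
      x ∈ nvs u U e 1)
    {φ : piece 𝒜 1 ⟶ (Scheme.Modules.pushforward q).obj L}
    (hφ : ∀ (U : Y.Opens) (_ : IsAffineOpen U) (e : Γ(piece 𝒜 1, U)), sv j (se q φ e) = ue u e) : VA q φ := by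
  refine va_of_cover (isQCoh_piece 𝒜 1) fun x => ?_
  obtain ⟨U, hU, e, he, hx⟩ := hsurj x
  exact ⟨U, hU, nvs_le u U e 1 hx, at_of_immersion hL hLq hj u hP hPL hr h1 hφ hU he hx⟩

end imm

end K387.RVA
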