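import Groth.Agent.Mor.K387.RFam
import Mathlib.AlgebraicGeometry.Morphisms.SchemeTheoreticallyDominant

/-!
# Scheme-theoretic dominance of `r_{L,ψ}`

* `of_forall_injective`: a quasi-compact morphism injective on functions over a family of affine opens covering the target
  is scheme-theoretically dominant;
* `isSTD_r`: `r_{L,ψ}` is scheme-theoretically dominant when `u` is injective over a cover.
-/

set_option autoImplicit false
set_option linter.unusedSectionVars false
universe u
open CategoryTheory CategoryTheory.Limits AlgebraicGeometry TopologicalSpace Opposite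
open scoped HomogeneousIdeal

noncomputable section

namespace K387.STD
open K41.LineAlg K41.LineRing K41.NV K41.PLine K41.RPhi K41.RKappa K41.RKappa2 K41.RCrit K41.RImm K42.DomQ K42.DomMap
  K42.Dominant K387.RFam

theorem of_forall_injective {X Y : Scheme.{u}} (f : X ⟶ Y) [QuasiCompact f]
    (H : ∀ y : Y, ∃ V : Y.Opens, IsAffineOpen V ∧ y ∈ V ∧ Function.Injective (f.app V).hom) :
    IsSchemeTheoreticallyDominant f := by
  choose V hV hy hinj using H
  refine ⟨Scheme.IdealSheafData.ext_of_iSup_eq_top (fun y => ⟨V y, hV y⟩) ?_ fun y => ?_⟩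
  · exact top_le_iff.mp fun y _ => Opens.mem_iSup.mpr ⟨y, hy y⟩
  · rw [Scheme.Hom.ker_apply]
    simp only [Scheme.IdealSheafData.ideal_bot, Pi.bot_apply]
    exact (RingHom.injective_iff_ker_eq_bot _).mp (hinj y)

/-- Injectivity on functions over the image of an open immersion, from a commutative square. -/
theorem app_injective_of_sq {X Y V W : Scheme.{u}} (f : X ⟶ Y) (k : W ⟶ V) (iW : W ⟶ X) (iV : V ⟶ Y)
    [IsOpenImmersion iV] (sq : k ≫ iV = iW ≫ f) (hk : Function.Injective k.appTop.hom) :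
    Function.Injective (f.app iV.opensRange).hom := by
  rw [injective_iff_map_eq_zero]
  intro a ha
  have h1 : (k.app (iV ⁻¹ᵁ iV.opensRange)).hom ((iV.app iV.opensRange).hom a) = 0 := by
    have h2 := Scheme.Hom.congr_app sq iV.opensRange
    rw [Scheme.Hom.comp_app, Scheme.Hom.comp_app] at h2
    have h3 := congr(($h2).hom a)
    refine h3.trans ?_
    have h8 : (f.app iV.opensRange ≫ iW.app (f ⁻¹ᵁ iV.opensRange)).hom a = 0 := by
      rw [CommRingCat.hom_comp, RingHom.comp_apply, ha, map_zero]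
    exact (congrArg (W.presheaf.map (eqToHom _).op).hom h8).trans (map_zero _)
  have h4 : iV ⁻¹ᵁ iV.opensRange = ⊤ := by simp
  have h5 : Function.Injective (k.app (iV ⁻¹ᵁ iV.opensRange)).hom := by
    rw [h4]; exact hk
  have h6 := h5 (h1.trans (map_zero _).symm)
  have h7 : Function.Injective (iV.app iV.opensRange).hom := by
    have : IsIso (iV.app iV.opensRange) := iV.isIso_app _ le_rfl
    exact ((ConcreteCategory.isIso_iff_bijective (iV.app iV.opensRange)).mp this).1
  exact h7 (h6.trans (map_zero _).symm)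

variable {X Y : Scheme.{u}} {q : X ⟶ Y} {𝒮 : RelProj.QCGrAlg Y} {ℬ : RelProj.QCGrAlg X}
  (u : RelProj.QGrHom q 𝒮 ℬ)
  {P : Scheme.{u}} {p : P ⟶ Y}
  {chart : ∀ (U : Y.Opens) (hU : IsAffineOpen U), (((p ⁻¹ᵁ U : P.Opens) : Scheme.{u}) ≅ Proj (𝒮.deg U hU))}
  (hP : RelProj.IsRelProj 𝒮 p chart)
  {PL : Scheme.{u}} {pL : PL ⟶ X}
  {chartL : ∀ (U : X.Opens) (hU : IsAffineOpen U), (((pL ⁻¹ᵁ U : PL.Opens) : Scheme.{u}) ≅ Proj (ℬ.deg U hU))}
  (hPL : RelProj.IsRelProj ℬ pL chartL) (hB : IsLineAlg ℬ)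
  {r : ((RelProj.domQ u pL chartL : PL.Opens) : Scheme.{u}) ⟶ P}
  (hr : RelProj.IsProjQMapOn u p chart pL chartL (RelProj.domQ u pL chartL) r)

include hP hPL hB hr in
/-- `r_{L,ψ}` is scheme-theoretically dominant if `u` is injective over a cover. -/
theorem isSTD_r [QuasiCompact q] (𝒞 : Set Y.affineOpens) (h𝒞 : ∀ y : Y, ∃ U ∈ 𝒞, y ∈ (U : Y.Opens))
    (hinj : ∀ U ∈ 𝒞, Function.Injective (u.app U.1).hom) : IsSchemeTheoreticallyDominant r := by
  have hiso := isIso_p hPL hB
  have hqc := quasiCompact_r u hP hPL hB hr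
  refine of_forall_injective r fun z => ?_
  obtain ⟨U, hU𝒞, hzU⟩ := h𝒞 (p.base z)
  obtain ⟨d, hd, s, hs, hzs, -⟩ := exists_std_le p chart U.1 U.2 z hzU ⊤ trivial
  refine ⟨(aff p chart U.1 U.2 hd s hs).opensRange, isAffineOpen_opensRange _, ?_, ?_⟩
  · rw [opensRange_aff U.1 U.2 hd s hs]; exact hzs
  · refine app_injective_of_sq r (kmor u hP hPL hB hr U.2 hd hs (le_refl _)) _ (aff p chart U.1 U.2 hd s hs)
      (isPullback_kmor u hP hPL hB hr U.2 hd hs).w ?_
    have h1 : Function.Injective (kappa u hP hPL hB hr U.2 hd hs (le_refl (nvs u U.1 s d))) :=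
      (kappa_injective_iff u hP hPL hB hr U.2 hd hs).mpr fun m _ s' _ h0 =>
        inj_of_injective u hB U.2 (hinj U hU𝒞) (q.isCompact_preimage U.2.isCompact) hs s' h0
    have h2 : Function.Injective ((Scheme.ΓSpecIso (CommRingCat.of (HomogeneousLocalization.Away (𝒮.deg U.1 U.2) s))).inv ≫
      (kmor u hP hPL hB hr U.2 hd hs (le_refl (nvs u U.1 s d))).appTop ≫ (nvs u U.1 s d).topIso.hom).hom := h1
    rw [CommRingCat.hom_comp, CommRingCat.hom_comp] at h2
    have h3 : Function.Surjective (Scheme.ΓSpecIso (CommRingCat.of (HomogeneousLocalization.Away (𝒮.deg U.1 U.2) s))).inv.hom :=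
      (ConcreteCategory.bijective_of_isIso
        (Scheme.ΓSpecIso (CommRingCat.of (HomogeneousLocalization.Away (𝒮.deg U.1 U.2) s))).inv).2
    intro a b hab
    obtain ⟨a', rfl⟩ := h3 a
    obtain ⟨b', rfl⟩ := h3 b
    have h4 : a' = b' := h2 (by
      simp only [RingHom.comp_apply]
      rw [hab])
    rw [h4]

end K387.STD
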