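import Groth.Agent.Mor.K387.RFam

/-!
# Sections `s`, `t` of degrees `k`, `k + n` of `𝒜` not vanishing at a point, for `L` ample
-/

set_option autoImplicit false
set_option linter.unusedSectionVars false
universe u
open CategoryTheory CategoryTheory.Limits AlgebraicGeometry TopologicalSpace Opposite
open scoped HomogeneousIdeal

noncomputable section

namespace K387.TwCov
open K41.LineAlg K41.LineRing K41.NV K41.PLine K41.RPhi K41.RImm K387.LineExt K387.LinePow K387.RFam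

variable {X : Scheme.{u}} {ℬ : RelProj.QCGrAlg X}

/-- On an affine open there are homogeneous elements of every degree not vanishing at a given point. -/
theorem exists_mem_nv (hB : IsLineAlg ℬ) {V : X.Opens} (hV : IsAffineOpen V) {x : X} (hx : x ∈ V) (n : ℕ) :
    ∃ y : ℬ.presheaf.obj (op V), y ∈ ℬ.deg V hV n ∧ x ∈ nv y n := by
  obtain ⟨V₀, hV₀, T, hxV₀, hV₀V, hT⟩ := exists_lineOn_le hB hx
  obtain ⟨a, haV, hxa⟩ := hV.exists_basicOpen_le ⟨x, hxV₀⟩ hx
  have hD : IsAffineOpen (X.basicOpen a) := hV.basicOpen a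
  have he : X.basicOpen a = X.basicOpen (resO hV₀V a) := by
    change _ = X.basicOpen ((X.presheaf.map (homOfLE hV₀V).op).hom a)
    rw [Scheme.basicOpen_res]
    exact (inf_eq_right.mpr haV).symm
  have hT' := lineOn_of_eq hT (resO hV₀V a) hD he haV
  have h1 : K41.LineAlg.res ℬ haV T ^ n ∈ ℬ.deg _ hD n := by
    have := hT'.mem n 1
    rwa [map_one, one_mul] at this
  obtain ⟨k, y, hy, hyk⟩ := exists_deg_res_eq hV a h1
  refine ⟨y, hy, ?_⟩
  have h2 : K41.LineAlg.res ℬ (X.basicOpen_le a) y =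
      str ℬ _ (resO (X.basicOpen_le a) a ^ k) * K41.LineAlg.res ℬ haV T ^ n := by
    rw [← hyk, map_pow]; ring
  rw [mem_nv_iff_of_line hT' (X.basicOpen_le a) y n _ h2 hxa]
  have h3 : IsUnit (resO (X.basicOpen_le a) a ^ k) := (isUnit_resO' a rfl (X.basicOpen_le a)).pow k
  rw [X.basicOpen_of_isUnit h3]
  exact hxa

variable {L : X.Modules} {jL : L ⟶ ℬ.toModule} (hL : PicF.IsInvertible L) (hLq : Coh.IsQCoh L)
  (hjL : RelProj.IsGrSymAlg L ℬ jL) {Y : Scheme.{u}} {q : X ⟶ Y} {𝒮 : RelProj.QCGrAlg Y}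
  (u : RelProj.QGrHom q 𝒮 ℬ)

include hL hLq hjL in
theorem exists_cov {U : Y.Opens} (hU : IsAffineOpen U) (hb : Function.Bijective (u.app U).hom)
    (h : Groth.Agent.Ega2.Ample.AmpleOn L (q ⁻¹ᵁ U)) (n : ℕ) {x : X} (hx : x ∈ q ⁻¹ᵁ U) :
    ∃ (k : ℕ) (_ : 0 < k) (s : 𝒮.presheaf.obj (op U)) (_ : s ∈ 𝒮.deg U hU k) (t : 𝒮.presheaf.obj (op U))
      (_ : t ∈ 𝒮.deg U hU (k + n)), x ∈ nvs u U s k ∧ x ∈ nvs u U t (k + n) := by
  have hB := K41.SymLine.isLineAlg hL hLq hjL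
  obtain ⟨ι, d, s, hF, -⟩ := exists_fam_of_ampleOn u hL hLq hjL hU hb h
  obtain ⟨i, hi⟩ := hF.cov x hx
  have haff : IsAffineOpen (nvs u U (s i) (d i)) := hF.aff i
  obtain ⟨y, hy, hxy⟩ := exists_mem_nv hB haff hi n
  have hyh : IsHom y n := fun V hV j => res_mem haff hV j hy
  obtain ⟨k, t, ht, htk⟩ := exists_extend hB h.isCompact h.isQuasiSeparated (isHom_us u hU (hF.mem i)) hyh
  obtain ⟨t', ht'⟩ := hb.2 t
  have ht2 : us u U t' = t := ht'
  have htm : t' ∈ 𝒮.deg U hU (k * d i + n) := mem_deg_of_isHom u hU hb.1 (by rw [ht2]; exact ht)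
  have hxt : x ∈ nvs u U t' (k * d i + n) := by
    have h1 := nv_res hB (nvs_le u U (s i) (d i)) ht
    have h2 : x ∈ nv (K41.LineAlg.res ℬ (nvs_le u U (s i) (d i)) t) (k * d i + n) := by
      have h3 : K41.LineAlg.res ℬ (nvs_le u U (s i) (d i)) t =
        K41.LineAlg.res ℬ (nvs_le u U (s i) (d i)) (us u U (s i)) ^ k * y := htk
      rw [h3]
      have h4 := (isHom_us u hU (hF.mem i)).res (nvs_le u U (s i) (d i))
      rw [nv_mul hB (h4.pow k) hyh]
      refine ⟨?_, hxy⟩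
      rcases Nat.eq_zero_or_pos k with rfl | hk
      · rw [pow_zero, zero_mul]
        refine mem_nv.mpr ⟨_, haff, le_rfl, hi, fun z _ => ?_⟩
        rw [map_one, Ideal.span_singleton_one]; trivial
      · rw [nv_pow hB h4 hk, nv_res hB _ (isHom_us u hU (hF.mem i))]
        exact ⟨hi, hi⟩
    rw [h1] at h2
    have h5 : x ∈ nv (us u U t') (k * d i + n) := by rw [ht2]; exact h2.1
    exact h5
  refine ⟨(k + 1) * d i, Nat.mul_pos (Nat.succ_pos k) (hF.pos i), s i ^ (k + 1), ?_, s i * t', ?_, ?_, ?_⟩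
  · exact SetLike.pow_mem_graded (k + 1) (hF.mem i)
  · have h1 := SetLike.mul_mem_graded (hF.mem i) htm
    have h2 : d i + (k * d i + n) = (k + 1) * d i + n := by ring
    rwa [h2] at h1
  · rw [nvs, us_pow, nv_pow hB (isHom_us u hU (hF.mem i)) (Nat.succ_pos k)]
    exact hi
  · have h2 : (k + 1) * d i + n = d i + (k * d i + n) := by ring
    rw [nvs, us_mul, h2, nv_mul hB (isHom_us u hU (hF.mem i)) (isHom_us u hU htm)]
    exact ⟨hi, hxt⟩

end K387.TwCov
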