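import Groth.Agent.Mor.K387.TwPull
import Groth.Agent.Mor.K387.FracTw
import Groth.Agent.Mor.K387.LineDiv

/-!
# The inverse image of `O_P(n)` along `r_{L,ψ}`

`r' : X ⟶ P` with `(G(ψ) → Proj ℬ → X) ≫ r' = r`, `(ℬ, j)` the graded symmetric algebra of the invertible module `L`.
`exists_iso_r'`: if every point of `X` is in `X_s ∩ X_t` for some `s ∈ 𝒮(U)_k`, `t ∈ 𝒮(U)_{k+n}`, `k > 0`, then
`r'^* O_P(n) ≅ L^{⊗ n}`.
-/

set_option autoImplicit false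
set_option linter.unusedSectionVars false
universe u
open CategoryTheory CategoryTheory.Limits AlgebraicGeometry TopologicalSpace Opposite
open scoped HomogeneousIdeal

noncomputable section

namespace K387.TwIso
open K41.LineAlg K41.LineRing K41.NV K41.PLine K41.RPhi K41.RKappa K41.RKappa2 K42.DomQ K42.DomMap
  K387.LineExt K387.LinePow K387.LineDiv K387.TwPull K387.FracTw Groth.Agent.Fdesc.LocGen K43.RelTw

variable {X Y : Scheme.{u}} {L : X.Modules} {q : X ⟶ Y} {𝒮 : RelProj.QCGrAlg Y} {ℬ : RelProj.QCGrAlg X}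
  {j : L ⟶ ℬ.toModule} (hL : PicF.IsInvertible L) (hLq : Coh.IsQCoh L) (hj : RelProj.IsGrSymAlg L ℬ j)
  (u : RelProj.QGrHom q 𝒮 ℬ)
  {P : Scheme.{u}} {p : P ⟶ Y}
  {chart : ∀ (U : Y.Opens) (hU : IsAffineOpen U), (((p ⁻¹ᵁ U : P.Opens) : Scheme.{u}) ≅ Proj (𝒮.deg U hU))}
  (hP : RelProj.IsRelProj 𝒮 p chart)
  {PL : Scheme.{u}} {pL : PL ⟶ X} [IsIso pL]
  {chartL : ∀ (U : X.Opens) (hU : IsAffineOpen U), (((pL ⁻¹ᵁ U : PL.Opens) : Scheme.{u}) ≅ Proj (ℬ.deg U hU))}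
  (hPL : RelProj.IsRelProj ℬ pL chartL) (hB : IsLineAlg ℬ)
  {r : ((RelProj.domQ u pL chartL : PL.Opens) : Scheme.{u}) ⟶ P}
  (hr : RelProj.IsProjQMapOn u p chart pL chartL (RelProj.domQ u pL chartL) r)
  {r' : X ⟶ P} (hr' : ((RelProj.domQ u pL chartL).ι ≫ pL) ≫ r' = r)

theorem us_map {U V : Y.Opens} (h : V ≤ U) (s : 𝒮.presheaf.obj (op U)) :
    us u V ((𝒮.presheaf.map (homOfLE h).op).hom s) = K41.LineAlg.res ℬ (q.preimage_mono h) (us u U s) :=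
  congr(($(u.naturality h)).hom s).symm

include hB in
theorem nvs_map {U V : Y.Opens} (hU : IsAffineOpen U) (h : V ≤ U) {d : ℕ} {s : 𝒮.presheaf.obj (op U)}
    (hs : s ∈ 𝒮.deg U hU d) : nvs u V ((𝒮.presheaf.map (homOfLE h).op).hom s) d = nvs u U s d ⊓ q ⁻¹ᵁ V := by
  rw [nvs, us_map, nv_res hB _ (isHom_us u hU hs)]
  rfl

include hB in
theorem nvs_mul {U : Y.Opens} (hU : IsAffineOpen U) {d e : ℕ} {s t : 𝒮.presheaf.obj (op U)}
    (hs : s ∈ 𝒮.deg U hU d) (ht : t ∈ 𝒮.deg U hU e) : nvs u U (s * t) (d + e) = nvs u U s d ⊓ nvs u U t e := by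
  rw [nvs, us_mul, nv_mul hB (isHom_us u hU hs) (isHom_us u hU ht)]
  rfl

variable {n : ℕ} {On : P.Modules}
  {lamn : ∀ (U : Y.Opens) (hU : IsAffineOpen U),
    On ⟶ (Scheme.Modules.pushforward (RelProj.emb p chart U hU)).obj (GrTwist.twist (𝒮.deg U hU) (n : ℤ))}
  (hOn : RelProj.IsRelTwist 𝒮 p chart (n : ℤ) On lamn)

include hL hLq hj hP hPL hr hr' hOn in
/-- The local comparison of the cocycles. -/
theorem local_rel
    {U : Y.Opens} (hU : IsAffineOpen U) {k : ℕ} (hk : 0 < k) {s t : 𝒮.presheaf.obj (op U)}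
    (hs : s ∈ 𝒮.deg U hU k) (ht : t ∈ 𝒮.deg U hU (k + n))
    {U' : Y.Opens} (hU' : IsAffineOpen U') {k' : ℕ} {s' t' : 𝒮.presheaf.obj (op U')}
    (hs' : s' ∈ 𝒮.deg U' hU' k') (ht' : t' ∈ 𝒮.deg U' hU' (k' + n))
    {e : Γ(On, Dp chart hU (s * t))} (he : IsFr lamn e hU t s)
    {e' : Γ(On, Dp chart hU' (s' * t'))} (he' : IsFr lamn e' hU' t' s') (hge' : IsGen e')
    {f : Γ(CohB1.tensorPow L n, nvs u U (s * t) (k + (k + n)))}
    (hf : sv (powHom j n) f * K41.LineAlg.res ℬ (nvs_le u U _ _) (us u U s) =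
      K41.LineAlg.res ℬ (nvs_le u U _ _) (us u U t))
    {f' : Γ(CohB1.tensorPow L n, nvs u U' (s' * t') (k' + (k' + n)))}
    (hf' : sv (powHom j n) f' * K41.LineAlg.res ℬ (nvs_le u U' _ _) (us u U' s') =
      K41.LineAlg.res ℬ (nvs_le u U' _ _) (us u U' t'))
    (hVW : nvs u U (s * t) (k + (k + n)) ≤ r' ⁻¹ᵁ Dp chart hU (s * t))
    (hVW' : nvs u U' (s' * t') (k' + (k' + n)) ≤ r' ⁻¹ᵁ Dp chart hU' (s' * t'))
    (x : X) (hx : x ∈ nvs u U (s * t) (k + (k + n)) ⊓ nvs u U' (s' * t') (k' + (k' + n))) :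
    ∃ (W : X.Opens) (_ : x ∈ W) (hi : W ≤ nvs u U (s * t) (k + (k + n)))
      (hi' : W ≤ nvs u U' (s' * t') (k' + (k' + n))) (c : Γ(X, W)),
      Groth.Agent.Fdesc.LocGen.res _ hi (Groth.Agent.Fdesc.LocGen.res _ hVW (pullSec r' e)) =
        c • Groth.Agent.Fdesc.LocGen.res _ hi' (Groth.Agent.Fdesc.LocGen.res _ hVW' (pullSec r' e')) ∧
      Groth.Agent.Fdesc.LocGen.res _ hi f = c • Groth.Agent.Fdesc.LocGen.res _ hi' f' := by
  have hB := K41.SymLine.isLineAlg hL hLq hj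
  have hst := SetLike.mul_mem_graded hs ht
  have hst' := SetLike.mul_mem_graded hs' ht'
  have hx1 : q x ∈ U := nvs_le u U _ _ hx.1
  have hx2 : q x ∈ U' := nvs_le u U' _ _ hx.2
  obtain ⟨f₁, g₁, hfg, hxf⟩ := exists_basicOpen_le_affine_inter hU hU' (q x) ⟨hx1, hx2⟩
  have h2U : Y.basicOpen f₁ ≤ U := Y.basicOpen_le f₁
  have h2U' : Y.basicOpen f₁ ≤ U' := hfg.le.trans (Y.basicOpen_le g₁)
  have hU₂ : IsAffineOpen (Y.basicOpen f₁) := hU.basicOpen f₁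
  let ρ := (𝒮.presheaf.map (homOfLE h2U).op).hom
  let ρ' := (𝒮.presheaf.map (homOfLE h2U').op).hom
  have hρst : ρ (s * t) ∈ 𝒮.deg _ hU₂ (k + (k + n)) := 𝒮.map_mem hU hU₂ h2U hst
  have hρst' : ρ' (s' * t') ∈ 𝒮.deg _ hU₂ (k' + (k' + n)) := 𝒮.map_mem hU' hU₂ h2U' hst'
  have hs₂ := SetLike.mul_mem_graded hρst hρst'
  have hd₂ : 0 < (k + (k + n)) + (k' + (k' + n)) := by omega
  have hD : Dp chart hU₂ (ρ (s * t) * ρ' (s' * t')) ≤ Dp chart hU (s * t) :=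
    (Dp_mul_le_left hU₂ _ _).trans (Dp_basicOpen_le hP hU f₁ _)
  have hD' : Dp chart hU₂ (ρ (s * t) * ρ' (s' * t')) ≤ Dp chart hU' (s' * t') :=
    (Dp_mul_le_right hU₂ _ _).trans (Dp_le_of_eq hP hU' g₁ hU₂ h2U' hfg _)
  obtain ⟨c, hc⟩ := (hge'.res hD').exists_eq (Groth.Agent.Fdesc.LocGen.res On hD e)
  -- nonvanishing opens
  have hV₂ : nvs u (Y.basicOpen f₁) (ρ (s * t) * ρ' (s' * t')) ((k + (k + n)) + (k' + (k' + n))) =
      (nvs u U (s * t) (k + (k + n)) ⊓ q ⁻¹ᵁ Y.basicOpen f₁) ⊓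
        (nvs u U' (s' * t') (k' + (k' + n)) ⊓ q ⁻¹ᵁ Y.basicOpen f₁) := by
    rw [nvs_mul u hB hU₂ hρst hρst', nvs_map u hB hU h2U hst, nvs_map u hB hU' h2U' hst']
  set V₂ := nvs u (Y.basicOpen f₁) (ρ (s * t) * ρ' (s' * t')) ((k + (k + n)) + (k' + (k' + n))) with hV₂def
  have hi : V₂ ≤ nvs u U (s * t) (k + (k + n)) := hV₂.le.trans (inf_le_left.trans inf_le_left)
  have hi' : V₂ ≤ nvs u U' (s' * t') (k' + (k' + n)) := hV₂.le.trans (inf_le_right.trans inf_le_left)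
  have hxV₂ : x ∈ V₂ := by rw [hV₂]; exact ⟨⟨hx.1, hxf⟩, ⟨hx.2, hxf⟩⟩
  have hle2 : V₂ ≤ q ⁻¹ᵁ Y.basicOpen f₁ := nvs_le u _ _ _
  have n1 : V₂ ≤ nvs u (Y.basicOpen f₁) (ρ s) k := by
    rw [nvs_map u hB hU h2U hs]
    refine le_inf (hi.trans ?_) hle2
    rw [nvs_mul u hB hU hs ht]; exact inf_le_left
  have n2 : V₂ ≤ nvs u (Y.basicOpen f₁) (ρ' s') k' := by
    rw [nvs_map u hB hU' h2U' hs']
    refine le_inf (hi'.trans ?_) hle2
    rw [nvs_mul u hB hU' hs' ht']; exact inf_le_left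
  have n3 : V₂ ≤ nvs u (Y.basicOpen f₁) (ρ' t') (k' + n) := by
    rw [nvs_map u hB hU' h2U' ht']
    refine le_inf (hi'.trans ?_) hle2
    rw [nvs_mul u hB hU' hs' ht']; exact inf_le_right
  have ms : ρ s ∈ 𝒮.deg _ hU₂ k := 𝒮.map_mem hU hU₂ h2U hs
  have mt : ρ t ∈ 𝒮.deg _ hU₂ (k + n) := 𝒮.map_mem hU hU₂ h2U ht
  have ms' : ρ' s' ∈ 𝒮.deg _ hU₂ k' := 𝒮.map_mem hU' hU₂ h2U' hs'
  have mt' : ρ' t' ∈ 𝒮.deg _ hU₂ (k' + n) := 𝒮.map_mem hU' hU₂ h2U' ht'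
  have ma : ρ t * ρ' s' ∈ 𝒮.deg _ hU₂ (k' + n + k) := by
    have h1 := SetLike.mul_mem_graded mt ms'
    have h2 : k + n + k' = k' + n + k := by omega
    rwa [h2] at h1
  have mb : ρ' t' * ρ s ∈ 𝒮.deg _ hU₂ (k' + n + k) := SetLike.mul_mem_graded mt' ms
  have hk := key u hP hPL hB hr hr' hU₂ hd₂ hs₂ ma mb (by
    rw [nvs_mul u hB hU₂ mt' ms]; exact le_inf n3 n1) c (fun y =>
      IsFr.rel ((he.res hD).of_eq hP hOn f₁ hU₂ h2U rfl) ((he'.res hD').of_eq hP hOn g₁ hU₂ h2U' hfg) c hc y)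
  refine ⟨V₂, hxV₂, hi, hi', (r'.appLE _ V₂ (nvs_le_preimage u hP hPL hB hr hr' hU₂ hd₂ hs₂)).hom c, ?_, ?_⟩
  · have h1 : pullSec r' (Groth.Agent.Fdesc.LocGen.res On hD e) =
        (r'.app _ c : Γ(X, r' ⁻¹ᵁ Dp chart hU₂ (ρ (s * t) * ρ' (s' * t')))) •
          pullSec r' (Groth.Agent.Fdesc.LocGen.res On hD' e') := by
      rw [hc, pullSec_smul]
    rw [← res_pullSec, ← res_pullSec] at h1
    have hle3 : V₂ ≤ r' ⁻¹ᵁ Dp chart hU₂ (ρ (s * t) * ρ' (s' * t')) :=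
      nvs_le_preimage u hP hPL hB hr hr' hU₂ hd₂ hs₂
    have h2 := congrArg (Groth.Agent.Fdesc.LocGen.res ((Scheme.Modules.pullback r').obj On) hle3) h1
    rw [res_smul, Groth.Agent.Fdesc.LocGen.res_res, Groth.Agent.Fdesc.LocGen.res_res] at h2
    rw [Groth.Agent.Fdesc.LocGen.res_res, Groth.Agent.Fdesc.LocGen.res_res]
    exact h2
  · apply powHom_injective hL hLq hj n
    dsimp only
    rw [sv_smul, sv_res, sv_res]
    have mss := SetLike.mul_mem_graded ms ms'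
    refine mul_cancel hB hle2 (isHom_us u hU₂ mss) (by
      have h3 := nvs_mul u hB hU₂ ms ms'
      change V₂ ≤ nvs u (Y.basicOpen f₁) (ρ s * ρ' s') (k + k')
      rw [h3]; exact le_inf n1 n2) ?_
    have e1 := congrArg (K41.LineAlg.res ℬ hi) hf
    have e2 := congrArg (K41.LineAlg.res ℬ hi') hf'
    rw [us_mul, us_map, us_map]
    rw [us_mul, us_mul, us_map, us_map, us_map, us_map] at hk
    simp only [map_mul, K41.LineAlg.res_res] at e1 e2 hk ⊢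
    rw [← mul_assoc, e1]
    refine hk.symm.trans ?_
    rw [← e2]
    ring

include hL hLq hj hP hPL hr hr' hOn in
/-- **The inverse image of `O_P(n)`.** -/
theorem exists_iso_r' (hcov : ∀ x : X, ∃ (U : Y.Opens) (hU : IsAffineOpen U) (k : ℕ) (_ : 0 < k)
      (s : 𝒮.presheaf.obj (op U)) (_ : s ∈ 𝒮.deg U hU k) (t : 𝒮.presheaf.obj (op U)) (_ : t ∈ 𝒮.deg U hU (k + n)),
      x ∈ nvs u U s k ∧ x ∈ nvs u U t (k + n)) :
    Nonempty ((Scheme.Modules.pullback r').obj On ≅ CohB1.tensorPow L n) := by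
  have hB := K41.SymLine.isLineAlg hL hLq hj
  choose U hU k hk s hs t ht hxs hxt using hcov
  have hst := fun x => SetLike.mul_mem_graded (hs x) (ht x)
  have hV : ∀ x, nvs u (U x) (s x * t x) (k x + (k x + n)) = nvs u (U x) (s x) (k x) ⊓ nvs u (U x) (t x) (k x + n) :=
    fun x => nvs_mul u hB (hU x) (hs x) (ht x)
  have he := fun x => exists_isFr hOn (hU x) (⟨t x, ht x⟩ : 𝒮.deg (U x) (hU x) (k x + n))
    (⟨s x, hs x⟩ : 𝒮.deg (U x) (hU x) (k x)) (by push_cast; rfl) (W := Dp chart (hU x) (s x * t x))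
    (Dp_mul_le_left (hU x) _ _)
  choose e hefr heg using he
  have heg' := fun x => heg x (Dp_mul_le_right (hU x) _ _)
  have hf := fun x => exists_pow_div hL hLq hj (n := n) (nvs_le u (U x) (s x * t x) (k x + (k x + n)))
    (isHom_us u (hU x) (hs x)) (isHom_us u (hU x) (ht x)) ((hV x).le.trans inf_le_left)
    ((hV x).le.trans inf_le_right)
  choose f hfg hf using hf
  have hVW : ∀ x, nvs u (U x) (s x * t x) (k x + (k x + n)) ≤ r' ⁻¹ᵁ Dp chart (hU x) (s x * t x) := fun x =>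
    nvs_le_preimage u hP hPL hB hr hr' (hU x) (by have := hk x; omega) (hst x)
  refine iso_of_local (U := fun x => nvs u (U x) (s x * t x) (k x + (k x + n)))
    (m := fun x => Groth.Agent.Fdesc.LocGen.res _ (hVW x) (pullSec r' (e x))) (n := f)
    (fun x => ⟨x, by rw [hV]; exact ⟨hxs x, hxt x⟩⟩) (fun x => ((heg' x).pullSec r').res (hVW x)) hfg ?_
  intro x x' z hz
  exact local_rel hL hLq hj u hP hPL hr hr' hOn (hU x) (hk x) (hs x) (ht x) (hU x') (hs x') (ht x') (hefr x)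
    (hefr x') (heg' x') (hf x) (hf x') (hVW x) (hVW x') z hz

end K387.TwIso
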