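import Groth.Agent.EGA2.K41.RKappa2
import Groth.Agent.EGA2.K43.RelTw

/-!
# Functions of `P` pulled back along `r_{L,ψ}`

`r' : X ⟶ P` with `(G(ψ) → Proj ℬ → X) ≫ r' = r`. `key`: for `a, b ∈ 𝒮(U)_m`, `s ∈ 𝒮(U)_d` and a function `c` on `D_+(s)` with
`c b = a` in all localizations, one has `r'^#(c) u(b) = u(a)` over `X_s`, if `X_s ⊆ X_b`.
-/

set_option autoImplicit false
set_option linter.unusedSectionVars false
universe u
open CategoryTheory CategoryTheory.Limits AlgebraicGeometry TopologicalSpace Opposite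
open scoped HomogeneousIdeal

noncomputable section

namespace K387.TwPull
open K41.LineAlg K41.LineRing K41.NV K41.PLine K41.RPhi K41.RKappa K41.RKappa2 K42.DomQ K42.DomMap

/-- Functions pulled back along a morphism which factors through a spectrum over an open. -/
theorem appLE_of_toSpecΓ {Z P : Scheme.{u}} (m : Z ⟶ P) {V : Z.Opens} {R : Type u} [CommRing R]
    (κ : CommRingCat.of R ⟶ Γ(Z, V)) (a : Spec (CommRingCat.of R) ⟶ P) (h : V.ι ≫ m = V.toSpecΓ ≫ Spec.map κ ≫ a)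
    {D : P.Opens} (hV : V ≤ m ⁻¹ᵁ D) (ha : ⊤ ≤ a ⁻¹ᵁ D) :
    m.appLE D V hV = a.appLE D ⊤ ha ≫ (Scheme.ΓSpecIso (CommRingCat.of R)).hom ≫ κ := by
  have key : ∀ (k k' : (V : Scheme.{u}) ⟶ P) (_ : k = k') (e : ⊤ ≤ k ⁻¹ᵁ D) (e' : ⊤ ≤ k' ⁻¹ᵁ D),
      k.appLE D ⊤ e = k'.appLE D ⊤ e' := by rintro k _ rfl e e'; rfl
  have e1 : ⊤ ≤ (V.ι ≫ m) ⁻¹ᵁ D := fun x _ => hV x.2
  have e2 : ⊤ ≤ (V.toSpecΓ ≫ Spec.map κ ≫ a) ⁻¹ᵁ D := fun x _ =>
    ha (show (Spec.map κ) (V.toSpecΓ x) ∈ (⊤ : (Spec (CommRingCat.of R)).Opens) from trivial)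
  have h1 := key _ _ h e1 e2
  have h2 : (V.ι ≫ m).appLE D ⊤ e1 = m.appLE D V hV ≫ V.topIso.inv := by
    rw [← Scheme.Hom.appLE_comp_appLE V.ι m D V ⊤ hV (by simp)]
    congr 1
    rw [Scheme.Opens.ι_appLE]
    rfl
  have h3 : (V.toSpecΓ ≫ Spec.map κ ≫ a).appLE D ⊤ e2 =
      a.appLE D ⊤ ha ≫ (Scheme.ΓSpecIso (CommRingCat.of R)).hom ≫ κ ≫ V.topIso.inv := by
    have h4 : ⊤ ≤ (V.toSpecΓ ≫ Spec.map κ) ⁻¹ᵁ (⊤ : (Spec (CommRingCat.of R)).Opens) := le_top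
    have h5 := Scheme.Hom.appLE_comp_appLE (V.toSpecΓ ≫ Spec.map κ) a D ⊤ ⊤ ha h4
    have h6 : (V.toSpecΓ ≫ Spec.map κ).appLE ⊤ ⊤ h4 =
        (Scheme.ΓSpecIso (CommRingCat.of R)).hom ≫ κ ≫ V.topIso.inv := by
      have h7 : (V.toSpecΓ ≫ Spec.map κ).appLE ⊤ ⊤ h4 =
        (V.toSpecΓ ≫ Spec.map κ).appTop := Scheme.Hom.appLE_eq_app _
      rw [h7, Scheme.Hom.comp_appTop, Scheme.Opens.toSpecΓ_appTop, Scheme.ΓSpecIso_naturality_assoc]
    rw [h6] at h5
    simpa only [Category.assoc] using h5.symm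
  rw [h2, h3] at h1
  refine (cancel_mono V.topIso.inv).mp ?_
  simpa only [Category.assoc] using h1

section proj

variable {A σ : Type u} [CommRing A] [SetLike σ A] [AddSubgroupClass σ A] {𝒜 : ℕ → σ} [GradedRing 𝒜]

open HomogeneousLocalization hiding val_mul in
/-- Values of the fractions. -/
theorem val_awayToSection_mk {f : A} {d : ℕ} (hf : f ∈ 𝒜 d) (m : ℕ) (t : A) (ht : t ∈ 𝒜 (m • d))
    (y : Proj.basicOpen 𝒜 f) :
    ((show GrTwist.O (𝒜 := 𝒜) (op (Proj.basicOpen 𝒜 f)) from (Proj.awayToSection 𝒜 f).hom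
      (Away.mk 𝒜 hf m t ht)).1 y).val * algebraMap A (GrTwist.Loc 𝒜 y.1) (f ^ m) =
      algebraMap A (GrTwist.Loc 𝒜 y.1) t := by
  have e1 : ((show GrTwist.O (𝒜 := 𝒜) (op (Proj.basicOpen 𝒜 f)) from (Proj.awayToSection 𝒜 f).hom
      (Away.mk 𝒜 hf m t ht)).1 y).val =
      (Localization.mk t ⟨f ^ m, fun h => y.2 (y.1.isPrime.mem_of_pow_mem m h)⟩ : GrTwist.Loc 𝒜 y.1) := by
    refine (ProjectiveSpectrum.Proj.awayToSection_apply (𝒜 := 𝒜) f _ y).trans ?_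
    rw [Away.val_mk, Localization.mk_eq_mk', IsLocalization.map_mk', Localization.mk_eq_mk']
    rfl
  rw [e1, ← Localization.mk_one_eq_algebraMap, ← Localization.mk_one_eq_algebraMap, Localization.mk_mul,
    Localization.mk_eq_mk_iff, Localization.r_iff_exists]
  exact ⟨1, by simp [mul_comm]⟩

theorem awayToSection_injective {f : A} {d : ℕ} (hf : f ∈ 𝒜 d) (hd : 0 < d) :
    Function.Injective (Proj.awayToSection 𝒜 f).hom := by
  have h2 : Function.Bijective (Proj.basicOpenIsoAway 𝒜 f hf hd).hom :=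
    ConcreteCategory.bijective_of_isIso _
  rw [Proj.basicOpenIsoAway_hom 𝒜 f hf hd] at h2
  exact h2.1

theorem alg {R B : Type*} [CommRing R] [CommRing B] (α : B →+* R) {v v₁ v₂ : R} {a b s : B} {m d : ℕ}
    (h7 : v = v₁ * v₂) (h6 : v₁ * α b = α a) (h3 : v₂ * α (s ^ m) = α (b ^ (d + 1))) :
    v * α (s ^ m) = α (a * b ^ d) := by
  rw [h7, mul_assoc, h3, map_mul, ← h6, map_pow, map_pow, pow_succ', mul_assoc]

end proj

variable {X Y : Scheme.{u}} {q : X ⟶ Y} {𝒮 : RelProj.QCGrAlg Y} {ℬ : RelProj.QCGrAlg X}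
  (u : RelProj.QGrHom q 𝒮 ℬ)
  {P : Scheme.{u}} {p : P ⟶ Y}
  {chart : ∀ (U : Y.Opens) (hU : IsAffineOpen U), (((p ⁻¹ᵁ U : P.Opens) : Scheme.{u}) ≅ Proj (𝒮.deg U hU))}
  (hP : RelProj.IsRelProj 𝒮 p chart)
  {PL : Scheme.{u}} {pL : PL ⟶ X} [IsIso pL]
  {chartL : ∀ (U : X.Opens) (hU : IsAffineOpen U), (((pL ⁻¹ᵁ U : PL.Opens) : Scheme.{u}) ≅ Proj (ℬ.deg U hU))}
  (hPL : RelProj.IsRelProj ℬ pL chartL) (hB : IsLineAlg ℬ)
  {r : ((RelProj.domQ u pL chartL : PL.Opens) : Scheme.{u}) ⟶ P}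
  (hr : RelProj.IsProjQMapOn u p chart pL chartL (RelProj.domQ u pL chartL) r)
  {r' : X ⟶ P} (hr' : ((RelProj.domQ u pL chartL).ι ≫ pL) ≫ r' = r)
  {U : Y.Opens} (hU : IsAffineOpen U) {d : ℕ} (hd : 0 < d) {s : 𝒮.presheaf.obj (op U)} (hs : s ∈ 𝒮.deg U hU d)

include hr' in
theorem ι_comp : (nvs u U s d).ι ≫ r' = (nvs u U s d).toSpecΓ ≫
    Spec.map (CommRingCat.ofHom (kappa u hP hPL hB hr hU hd hs (le_refl (nvs u U s d)))) ≫
      aff p chart U hU hd s hs := by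
  rw [← Category.assoc _ (Spec.map _), toSpecΓ_kappa, kmor_aff, ← hr', ← Category.assoc, lft_ι_pL]

include hP hPL hB hr hr' hU hd hs in
theorem nvs_le_preimage : nvs u U s d ≤ r' ⁻¹ᵁ std p chart U hU s := by
  intro x hx
  have h1 := ι_comp u hP hPL hB hr hr' hU hd hs
  have h2 : r' x = ((nvs u U s d).ι ≫ r') ⟨x, hx⟩ := rfl
  change r' x ∈ std p chart U hU s
  rw [h2, h1, ← opensRange_aff U hU hd s hs]
  exact ⟨_, rfl⟩

/-- `emb` over `D_+(s)`. -/
theorem ι_emb : (Proj.basicOpen (𝒮.deg U hU) s).ι ≫ RelProj.emb p chart U hU = (Proj.basicOpen (𝒮.deg U hU) s).toSpecΓ ≫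
    Spec.map (Proj.awayToSection (𝒮.deg U hU) s) ≫ aff p chart U hU hd s hs := by
  rw [aff, ← Category.assoc, ← Category.assoc]
  congr 1
  change _ = Proj.basicOpenToSpec (𝒮.deg U hU) s ≫ _
  rw [← Proj.basicOpenIsoSpec_hom (𝒮.deg U hU) s hs hd, Proj.awayι, Iso.hom_inv_id_assoc]

theorem top_le_aff : ⊤ ≤ aff p chart U hU hd s hs ⁻¹ᵁ std p chart U hU s := by
  intro z _
  change aff p chart U hU hd s hs z ∈ std p chart U hU s
  rw [← opensRange_aff U hU hd s hs]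
  exact ⟨z, rfl⟩

variable (p chart) in
/-- A function on `D_+(s)` as an element of `𝒮(U)_(s)`. -/
def theta : Γ(P, std p chart U hU s) ⟶ CommRingCat.of (HomogeneousLocalization.Away (𝒮.deg U hU) s) :=
  (aff p chart U hU hd s hs).appLE (std p chart U hU s) ⊤ (top_le_aff hU hd hs) ≫
    (Scheme.ΓSpecIso (CommRingCat.of (HomogeneousLocalization.Away (𝒮.deg U hU) s))).hom

theorem appLE_r' : r'.appLE (std p chart U hU s) (nvs u U s d) (nvs_le_preimage u hP hPL hB hr hr' hU hd hs) =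
    theta p chart hU hd hs ≫ CommRingCat.ofHom (kappa u hP hPL hB hr hU hd hs (le_refl (nvs u U s d))) := by
  rw [appLE_of_toSpecΓ r' _ _ (ι_comp u hP hPL hB hr hr' hU hd hs) _ (top_le_aff hU hd hs), theta, Category.assoc]

theorem appLE_emb : (RelProj.emb p chart U hU).appLE (std p chart U hU s) (Proj.basicOpen (𝒮.deg U hU) s)
      ((RelProj.emb p chart U hU).preimage_image_eq _).ge =
    theta p chart hU hd hs ≫ Proj.awayToSection (𝒮.deg U hU) s := by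
  rw [appLE_of_toSpecΓ (RelProj.emb p chart U hU) _ _ (ι_emb hU hd hs) _ (top_le_aff hU hd hs), theta, Category.assoc]

/-- **Functions with `c b = a` in the charts**: `r'^#(c) u(b) = u(a)`. -/
theorem key {m : ℕ} {a b : 𝒮.presheaf.obj (op U)} (ha : a ∈ 𝒮.deg U hU m) (hb : b ∈ 𝒮.deg U hU m)
    (hle : nvs u U s d ≤ nvs u U b m) (c : Γ(P, std p chart U hU s))
    (hc : ∀ y : (RelProj.emb p chart U hU ⁻¹ᵁ std p chart U hU s : (Proj (𝒮.deg U hU)).Opens),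
      ((show GrTwist.O (𝒜 := 𝒮.deg U hU) (op (RelProj.emb p chart U hU ⁻¹ᵁ std p chart U hU s)) from
        (RelProj.emb p chart U hU).app (std p chart U hU s) c).1 y).val *
        algebraMap _ (GrTwist.Loc (𝒮.deg U hU) y.1) b = algebraMap _ (GrTwist.Loc (𝒮.deg U hU) y.1) a) :
    str ℬ (nvs u U s d) ((r'.appLE (std p chart U hU s) (nvs u U s d)
      (nvs_le_preimage u hP hPL hB hr hr' hU hd hs)).hom c) * K41.LineAlg.res ℬ (nvs_le u U s d) (us u U b) =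
      K41.LineAlg.res ℬ (nvs_le u U s d) (us u U a) := by
  obtain ⟨d', rfl⟩ : ∃ d', d = d' + 1 := ⟨d - 1, by omega⟩
  have hb1 : b ^ (d' + 1) ∈ 𝒮.deg U hU (m • (d' + 1)) := by
    have := SetLike.pow_mem_graded (d' + 1) hb
    rwa [smul_eq_mul, mul_comm, ← smul_eq_mul] at this
  have ha1 : a * b ^ d' ∈ 𝒮.deg U hU (m • (d' + 1)) := by
    have h1 := SetLike.mul_mem_graded ha (SetLike.pow_mem_graded d' hb)
    have h2 : m + d' • m = m • (d' + 1) := by rw [smul_eq_mul, smul_eq_mul]; ring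
    rwa [h2] at h1
  -- the equation in `𝒮(U)_(s)`
  have h1 : theta p chart hU hd hs c * HomogeneousLocalization.Away.mk (𝒮.deg U hU) hs m (b ^ (d' + 1)) hb1 =
      HomogeneousLocalization.Away.mk (𝒮.deg U hU) hs m (a * b ^ d') ha1 := by
    apply awayToSection_injective hs hd
    rw [map_mul]
    refine Subtype.ext (funext fun y => HomogeneousLocalization.val_injective _ ?_)
    have hy : y.1 ∈ RelProj.emb p chart U hU ⁻¹ᵁ std p chart U hU s :=
      ((RelProj.emb p chart U hU).preimage_image_eq _).ge y.2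
    have h2 := hc ⟨y.1, hy⟩
    have h3 := val_awayToSection_mk hs m _ hb1 y
    have h4 := val_awayToSection_mk hs m _ ha1 y
    have h5 := congr(($(appLE_emb (p := p) (chart := chart) hU hd hs)).hom c)
    have hu : IsUnit (algebraMap _ (GrTwist.Loc (𝒮.deg U hU) y.1) (s ^ m)) :=
      IsLocalization.map_units (GrTwist.Loc (𝒮.deg U hU) y.1)
        (⟨s ^ m, fun h => y.2 (y.1.isPrime.mem_of_pow_mem m h)⟩ : y.1.asHomogeneousIdeal.toIdeal.primeCompl)
    have h6 : ((show GrTwist.O (𝒜 := 𝒮.deg U hU) (op (Proj.basicOpen (𝒮.deg U hU) s)) from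
        (Proj.awayToSection (𝒮.deg U hU) s).hom (theta p chart hU hd hs c)).1 y).val *
        algebraMap _ (GrTwist.Loc (𝒮.deg U hU) y.1) b = algebraMap _ (GrTwist.Loc (𝒮.deg U hU) y.1) a := by
      rw [← h2]
      congr 2
      exact (congrArg (fun t : GrTwist.O (𝒜 := 𝒮.deg U hU) (op (Proj.basicOpen (𝒮.deg U hU) s)) => t.1 y) h5).symm
    apply hu.mul_left_injective
    exact (alg _ (HomogeneousLocalization.val_mul _ _) h6 h3).trans h4.symm
  have h8 := congrArg (fun z => str ℬ (nvs u U s (d' + 1)) (kappa u hP hPL hB hr hU hd hs (le_refl (nvs u U s (d' + 1))) z) *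
    K41.LineAlg.res ℬ (nvs_le u U s (d' + 1)) (us u U s) ^ m) h1
  dsimp only at h8
  rw [kappa_mk, map_mul, map_mul, mul_assoc, kappa_mk, us_mul, us_pow, us_pow, map_mul, map_pow, map_pow] at h8
  have h9 := congr(($(appLE_r' u hP hPL hB hr hr' hU hd hs)).hom c)
  have h10 : (r'.appLE (std p chart U hU s) (nvs u U s (d' + 1)) (nvs_le_preimage u hP hPL hB hr hr' hU hd hs)).hom c =
    kappa u hP hPL hB hr hU hd hs (le_refl (nvs u U s (d' + 1))) (theta p chart hU hd hs c) := h9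
  rw [h10]
  refine ext_line hB fun V hV T hT i => ?_
  have h11 := congrArg (K41.LineAlg.res ℬ i) h8
  rw [← sub_eq_zero]
  refine regular_of_line hT (i.trans (nvs_le u U s (d' + 1))) (isHom_us u hU hb) (i.trans hle) _ d' ?_
  rw [sub_mul, sub_eq_zero]
  simp only [map_mul, map_pow, K41.LineAlg.res_res] at h11 ⊢
  rw [← h11, pow_succ', mul_assoc]

end K387.TwPull
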